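/-
Extensions of a field with an involution: fixed elements, counting zeros of a quadratic map, inverse-closed subspaces.
-/
import Mathlib.FieldTheory.ChevalleyWarning
import Mathlib.Algebra.Module.ZMod
import Mathlib.RingTheory.Trace.Basic
import Cfsg.Agent.Lib.Classical22.SpField.Gen
import Cfsg.Agent.Lib.Transvec.Unitary

set_option autoImplicit false
set_option linter.all false

namespace CfsgLib.Classical22.UField

theorem dvd_card_zero_aux {p : ℕ} [Fact p.Prime] {A C : Type*} [AddCommGroup A] [AddCommGroup C] [Finite A]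
    [Finite C] [Module (ZMod p) A] [Module (ZMod p) C] (Φ : A →+ A →+ C) (T' : Submodule (ZMod p) C)
    (hT : ∀ a, Φ a a ∈ T') (hcard : Nat.card T' ^ 2 < Nat.card A) :
    p ∣ Nat.card {a : A // Φ a a = 0} := by
  classical
  haveI : Module.Finite (ZMod p) A := Module.Finite.of_finite
  haveI : Module.Finite (ZMod p) C := Module.Finite.of_finite
  obtain ⟨π, hπ⟩ : ∃ π : C →ₗ[ZMod p] T',
      ∀ x : T', π x = x := by
    obtain ⟨C', hC'⟩ := Submodule.exists_isCompl T'
    exact ⟨Submodule.linearProjOfIsCompl _ C' hC', Submodule.linearProjOfIsCompl_apply_left hC'⟩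
  let bA := Module.finBasis (ZMod p) A
  let bT := Module.finBasis (ZMod p) T'
  have hTcard : Nat.card T' = p ^ Module.finrank (ZMod p) T' := by
    have h := Module.natCard_eq_pow_finrank (K := ZMod p) (V := T')
    rw [Nat.card_zmod] at h
    exact h
  have hAcard : Nat.card A = p ^ Module.finrank (ZMod p) A := by
    have h := Module.natCard_eq_pow_finrank (K := ZMod p) (V := A)
    rwa [Nat.card_zmod] at h
  have hlt : 2 * Module.finrank (ZMod p) T' < Module.finrank (ZMod p) A := by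
    rw [hTcard, hAcard, ← pow_mul] at hcard
    have := (Nat.pow_lt_pow_iff_right (Fact.out : p.Prime).one_lt).1 hcard
    omega
  let L : A →ₗ[ZMod p] A →ₗ[ZMod p] T' :=
    LinearMap.mk₂ (ZMod p) (fun a b => π (Φ a b)) (fun a a' b => by simp)
      (fun c a b => by
        rw [show Φ (c • a) b = c • Φ a b from ZMod.map_smul (Φ.flip b) c a, map_smul])
      (fun a b b' => by simp)
      (fun c a b => by rw [show Φ a (c • b) = c • Φ a b from ZMod.map_smul (Φ a) c b, map_smul])
  have hL : ∀ a, L a a = 0 ↔ Φ a a = 0 := fun a => by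
    have h := hπ ⟨Φ a a, hT a⟩
    rw [LinearMap.mk₂_apply, h]
    exact ⟨fun e => congrArg Subtype.val e, fun e => Subtype.ext e⟩
  obtain ⟨P, hP⟩ : ∃ P : Fin (Module.finrank (ZMod p) T') →
      MvPolynomial (Fin (Module.finrank (ZMod p) A)) (ZMod p),
      ∀ l, P l = ∑ i, ∑ j, MvPolynomial.C (bT.repr (L (bA i) (bA j)) l) * MvPolynomial.X i * MvPolynomial.X j :=
    ⟨fun l => _, fun l => rfl⟩
  have hdeg : ∀ l, (P l).totalDegree ≤ 2 := fun l => by
    rw [hP]
    refine MvPolynomial.totalDegree_finsetSum_le fun i _ => MvPolynomial.totalDegree_finsetSum_le fun j _ => ?_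
    refine (MvPolynomial.totalDegree_mul _ _).trans ((Nat.add_le_add_right (MvPolynomial.totalDegree_mul _ _) _).trans ?_)
    rw [MvPolynomial.totalDegree_C, MvPolynomial.totalDegree_X, MvPolynomial.totalDegree_X]
  have hsum : (∑ l, (P l).totalDegree) < Fintype.card (Fin (Module.finrank (ZMod p) A)) := by
    refine lt_of_le_of_lt (Finset.sum_le_sum fun l _ => hdeg l) ?_
    rw [Finset.sum_const, Finset.card_univ, Fintype.card_fin, Fintype.card_fin, smul_eq_mul]
    omega
  have h := char_dvd_card_solutions_of_fintype_sum_lt (K := ZMod p) p hsum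
  have heval : ∀ (x : Fin (Module.finrank (ZMod p) A) → ZMod p) l,
      MvPolynomial.eval x (P l) = bT.repr (L (bA.equivFun.symm x) (bA.equivFun.symm x)) l := fun x l => by
    rw [hP, Module.Basis.equivFun_symm_apply]
    simp only [map_sum, map_mul, MvPolynomial.eval_C, MvPolynomial.eval_X, LinearMap.map_smul, LinearMap.sum_apply,
      LinearMap.smul_apply, Finsupp.coe_finset_sum, Finset.sum_apply, Finsupp.smul_apply, smul_eq_mul, Finset.mul_sum]
    rw [Finset.sum_comm]
    exact Finset.sum_congr rfl fun i _ => Finset.sum_congr rfl fun j _ => by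
      simp only [map_smul, Finsupp.smul_apply, smul_eq_mul]; ring
  replace h : p ∣ Nat.card {x : Fin (Module.finrank (ZMod p) A) → ZMod p // ∀ i, MvPolynomial.eval x (P i) = 0} := by
    rw [Nat.card_eq_fintype_card]; convert h
  refine h.trans (dvd_of_eq (Nat.card_congr (Equiv.subtypeEquiv bA.equivFun.symm.toEquiv fun x => ?_)))
  rw [← hL]
  simp only [heval]
  exact ⟨fun e => bT.repr.injective (Finsupp.ext fun l => by simpa using e l), fun e l => by
    simp only [LinearEquiv.coe_toEquiv] at e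
    rw [e]; simp⟩

/-- Chevalley–Warning for the diagonal of a biadditive map. -/
theorem dvd_card_zero {p : ℕ} [Fact p.Prime] {A C : Type*} [AddCommGroup A] [AddCommGroup C] [Finite A] [Finite C]
    (hA : ∀ a : A, p • a = 0) (hC : ∀ c : C, p • c = 0) (Φ : A →+ A →+ C) (T : AddSubgroup C)
    (hT : ∀ a, Φ a a ∈ T) (hcard : Nat.card T ^ 2 < Nat.card A) :
    p ∣ Nat.card {a : A // Φ a a = 0} :=
  @dvd_card_zero_aux p _ A C _ _ _ _ (AddCommGroup.zmodModule hA) (AddCommGroup.zmodModule hC) Φ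
    (@AddSubgroup.toZModSubmodule p C _ (AddCommGroup.zmodModule hC) T) hT hcard

variable {F : Type*} [Field F] {K : Type*} [Field K] [Algebra F K]

/-- `τ` extends `σ` and has order two. -/
structure Ext (σ : F ≃+* F) (τ : K ≃+* K) : Prop where
  ne_refl : σ ≠ RingEquiv.refl F
  invol₀ : ∀ a, σ (σ a) = a
  invol : ∀ k, τ (τ k) = k
  alg : ∀ c, τ (algebraMap F K c) = algebraMap F K (σ c)

/-- The fixed elements. -/
def fixG (τ : K ≃+* K) : AddSubgroup K where
  carrier := {k | τ k = k}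
  zero_mem' := map_zero τ
  add_mem' := fun {a b} (ha : τ a = a) (hb : τ b = b) => show τ (a + b) = a + b by rw [map_add, ha, hb]
  neg_mem' := fun {a} (ha : τ a = a) => show τ (-a) = -a by rw [map_neg, ha]

/-- The skew elements. -/
def skewG (τ : K ≃+* K) : AddSubgroup K where
  carrier := {k | k + τ k = 0}
  zero_mem' := show (0 : K) + τ 0 = 0 by rw [map_zero, add_zero]
  add_mem' := fun {a b} (ha : a + τ a = 0) (hb : b + τ b = 0) => show (a + b) + τ (a + b) = 0 by
    rw [map_add]; linear_combination ha + hb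
  neg_mem' := fun {a} (ha : a + τ a = 0) => show -a + τ (-a) = 0 by
    rw [map_neg]; linear_combination -ha

variable {σ : F ≃+* F} {τ : K ≃+* K}

lemma mem_fix {k : K} : k ∈ fixG τ ↔ τ k = k := Iff.rfl

lemma mem_skew {k : K} : k ∈ skewG τ ↔ k + τ k = 0 := Iff.rfl

namespace Ext

variable (hτ : Ext σ τ)
include hτ

lemma smul_tau (c : F) (k : K) : τ (c • k) = σ c • τ k := by
  rw [Algebra.smul_def, map_mul, hτ.alg, ← Algebra.smul_def]

/-- Decomposition along a non-fixed scalar. -/
lemma split {θ : F} (hθ : σ θ ≠ θ) : Function.Bijective fun x : fixG τ × fixG τ => (x.1 : K) + θ • (x.2 : K) := by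
  have hd : algebraMap F K θ - algebraMap F K (σ θ) ≠ 0 := sub_ne_zero.2 fun e => hθ ((algebraMap F K).injective e).symm
  refine ⟨fun x y h => ?_, fun k => ?_⟩
  · simp only at h
    have h2 := congrArg τ h
    simp only [map_add, hτ.smul_tau, mem_fix.1 (x.1).2, mem_fix.1 (x.2).2, mem_fix.1 (y.1).2, mem_fix.1 (y.2).2] at h2
    simp only [Algebra.smul_def] at h h2
    have h3 : (x.2 : K) = y.2 := by
      refine mul_left_cancel₀ hd ?_
      linear_combination h - h2
    refine Prod.ext (Subtype.ext ?_) (Subtype.ext h3)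
    rw [h3] at h
    exact add_right_cancel h
  · obtain ⟨y, hy⟩ : ∃ y, y = (k - τ k) / (algebraMap F K θ - algebraMap F K (σ θ)) := ⟨_, rfl⟩
    have hy' : τ y = y := by
      rw [hy, map_div₀, map_sub, map_sub, hτ.invol, hτ.alg, hτ.alg, hτ.invol₀, ← neg_sub k, ← neg_sub (algebraMap F K θ),
        neg_div_neg_eq]
    have hx : τ (k - θ • y) = k - θ • y := by
      rw [map_sub, hτ.smul_tau, hy', Algebra.smul_def, Algebra.smul_def]
      rw [hy]; field_simp; ring
    exact ⟨(⟨_, hx⟩, ⟨_, hy'⟩), by simp⟩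

lemma exists_scalar : ∃ θ : F, σ θ ≠ θ := by
  by_contra h
  push Not at h
  exact hτ.ne_refl (RingEquiv.ext h)

lemma tau_ne_refl : τ ≠ RingEquiv.refl K := fun h => by
  obtain ⟨θ, hθ⟩ := hτ.exists_scalar
  have := hτ.alg θ
  rw [h] at this
  exact hθ ((algebraMap F K).injective this).symm

lemma exists_skew_scalar : ∃ ζ : F, ζ ≠ 0 ∧ ζ + σ ζ = 0 :=
  Transvec.Unitary.exists_skew hτ.ne_refl hτ.invol₀

lemma skew_smul_fix {ζ : F} (hζ : ζ + σ ζ = 0) {x : K} (hx : x ∈ fixG τ) : ζ • x ∈ skewG τ := by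
  rw [mem_skew, hτ.smul_tau, mem_fix.1 hx, ← add_smul, hζ, zero_smul]

lemma card_fix [Finite K] : Nat.card (fixG τ) ^ 2 = Nat.card K := by
  obtain ⟨θ, hθ⟩ := hτ.exists_scalar
  rw [sq, ← Nat.card_prod, Nat.card_congr (Equiv.ofBijective _ (hτ.split hθ))]

lemma card_skew : Nat.card (skewG τ) = Nat.card (fixG τ) := by
  obtain ⟨ζ, hζ0, hζ⟩ := hτ.exists_skew_scalar
  refine (Nat.card_congr (Equiv.ofBijective
    (fun x : fixG τ => (⟨ζ • (x : K), hτ.skew_smul_fix hζ x.2⟩ : skewG τ)) ⟨fun x y h => ?_, fun y => ?_⟩)).symm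
  · exact Subtype.ext (smul_right_injective K hζ0 (congrArg Subtype.val h))
  · have hy : τ (y : K) = -(y : K) := by linear_combination mem_skew.1 y.2
    refine ⟨⟨ζ⁻¹ • (y : K), ?_⟩, Subtype.ext (smul_inv_smul₀ hζ0 _)⟩
    rw [mem_fix, hτ.smul_tau, map_inv₀, show σ ζ = -ζ by linear_combination hζ, hy, inv_neg, neg_smul_neg]

lemma trace_tau (k : K) : Algebra.trace F K (τ k) = σ (Algebra.trace F K k) := by
  rw [Algebra.trace_eq_of_equiv_equiv σ τ (RingHom.ext fun c => (hτ.alg c).symm) k, RingEquiv.apply_symm_apply]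

lemma trace_fix {k : K} (hk : τ k = k) : σ (Algebra.trace F K k) = Algebra.trace F K k := by
  rw [← hτ.trace_tau, hk]

lemma trace_skew {k : K} (hk : k + τ k = 0) : Algebra.trace F K k + σ (Algebra.trace F K k) = 0 := by
  rw [← hτ.trace_tau, ← map_add, hk, map_zero]

variable [Fintype F] [FiniteDimensional F K]

/-- The fixed elements of trace zero are fewer. -/
lemma card_traceZero_lt (T : AddSubgroup K) (hT : ∀ k ∈ T, τ k = k ∧ Algebra.trace F K k = 0) :
    Nat.card T ^ 2 < Nat.card K := by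
  haveI : Finite K := Module.finite_of_finite F
  rw [← hτ.card_fix]
  refine Nat.pow_lt_pow_left ?_ two_ne_zero
  have hle : T < fixG τ := lt_of_le_not_ge (fun k hk => (hT k hk).1) fun hge => by
    obtain ⟨θ, hθ⟩ := hτ.exists_scalar
    obtain ⟨x, hx⟩ := Algebra.trace_surjective F K 1
    obtain ⟨⟨a, b⟩, hab⟩ := (hτ.split hθ).2 x
    simp only at hab
    rw [← hab, map_add, map_smul, (hT _ (hge a.2)).2, (hT _ (hge b.2)).2, smul_zero, add_zero] at hx
    exact zero_ne_one hx
  exact Set.ncard_lt_ncard (SetLike.coe_ssubset_coe.2 hle) (Set.toFinite _)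

/-- A non-zero functional, skew on fixed elements and killing `1`, separates some fixed element from its inverse. -/
theorem exists_one_zero (hr : (Module.finrank F K).Prime) (hr2 : Module.finrank F K ≠ 2) (φ : K →ₗ[F] F) (hφ : φ ≠ 0)
    (hs : ∀ x, τ x = x → φ x + σ (φ x) = 0) (h1 : φ 1 = 0) :
    ∃ ρ : K, τ ρ = ρ ∧ ρ ≠ 0 ∧ ¬ (φ ρ = 0 ↔ φ ρ⁻¹ = 0) := by
  classical
  haveI : Finite K := Module.finite_of_finite F
  by_contra hc
  push Not at hc
  obtain ⟨θ, hθ⟩ := hτ.exists_scalar
  obtain ⟨H, hH⟩ : ∃ H : K → Prop, ∀ x, H x ↔ τ x = x ∧ φ x = 0 := ⟨_, fun x => Iff.rfl⟩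
  have hinv : ∀ x, H x → H x⁻¹ := fun x hx => by
    rw [hH] at hx ⊢
    by_cases hx0 : x = 0
    · subst hx0; simp
    · exact ⟨by rw [map_inv₀, hx.1], (hc x hx.1 hx0).1 hx.2⟩
  have hadd : ∀ a b, H a → H b → H (a + b) := fun a b ha hb => by
    rw [hH] at *; exact ⟨by rw [map_add, ha.1, hb.1], by rw [map_add, ha.2, hb.2, add_zero]⟩
  have hsub : ∀ a b, H a → H b → H (a - b) := fun a b ha hb => by
    rw [hH] at *; exact ⟨by rw [map_sub, ha.1, hb.1], by rw [map_sub, ha.2, hb.2, sub_zero]⟩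
  have hone : H 1 := (hH 1).2 ⟨map_one τ, h1⟩
  have hzero : H 0 := (hH 0).2 ⟨map_zero τ, map_zero φ⟩
  have hua : ∀ a b, H a → H b → H (a * a * b) := by
    intro a b ha hb
    by_cases ha0 : a = 0
    · rwa [ha0, zero_mul, zero_mul]
    by_cases hb0 : b = 0
    · rwa [hb0, mul_zero]
    by_cases hab : a * b = 1
    · rwa [mul_assoc, hab, mul_one]
    have hd : b⁻¹ - a ≠ 0 := fun h => hab (by rw [← sub_eq_zero.1 h, inv_mul_cancel₀ hb0])
    have he : a - (a⁻¹ + (b⁻¹ - a)⁻¹)⁻¹ = a * a * b := by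
      have h3 : a⁻¹ + (b⁻¹ - a)⁻¹ = b⁻¹ * (a * (b⁻¹ - a))⁻¹ := by field_simp; ring
      rw [h3, mul_inv, inv_inv, inv_inv]
      field_simp
      ring
    rw [← he]
    exact hsub _ _ ha (hinv _ (hadd _ _ (hinv _ ha) (hinv _ (hsub _ _ (hinv _ hb) ha))))
  have hscal : ∀ (c : F) a, σ c = c → H a → H (c • a) := fun c a hc' ha => by
    rw [hH] at *; exact ⟨by rw [hτ.smul_tau, hc', ha.1], by rw [map_smul, ha.2, smul_zero]⟩
  have hmul : ∀ a b, H a → H b → H (a * b) := by
    intro a b ha hb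
    by_cases h2 : (2 : F) = 0
    · obtain ⟨s, hs'⟩ : ∃ s : {x : K // H x} → {x : K // H x}, ∀ x, (s x).1 = x.1 * x.1 :=
        ⟨fun x => ⟨x.1 * x.1, by have := hua x.1 1 x.2 hone; rwa [mul_one] at this⟩, fun x => rfl⟩
      have hinj : Function.Injective s := fun x y hxy => by
        have h := congrArg Subtype.val hxy
        rw [hs', hs'] at h
        refine Subtype.ext ?_
        rcases mul_self_eq_mul_self_iff.1 h with h' | h'
        · exact h'
        · rw [h', neg_eq_iff_add_eq_zero, ← two_mul, ← map_ofNat (algebraMap F K) 2, h2, map_zero, zero_mul]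
      obtain ⟨x, hx⟩ := Finite.injective_iff_surjective.1 hinj ⟨a, ha⟩
      have h := congrArg Subtype.val hx
      rw [hs'] at h
      have h' := hua x.1 b x.2 hb
      rwa [h] at h'
    · have h2a : H ((a + b) * (a + b) * 1 - a * a * 1 - b * b * 1) :=
        hsub _ _ (hsub _ _ (hua _ 1 (hadd _ _ ha hb) hone) (hua a 1 ha hone)) (hua b 1 hb hone)
      have h3 := hscal (2 : F)⁻¹ _ (by rw [map_inv₀, map_ofNat]) h2a
      have h2K : (algebraMap F K (2 : F)) = 2 := map_ofNat _ 2
      rwa [show (2 : F)⁻¹ • ((a + b) * (a + b) * 1 - a * a * 1 - b * b * 1) = a * b by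
        rw [inv_smul_eq_iff₀ h2, Algebra.smul_def, h2K]; ring] at h3
  have hker : ∀ k, φ k = 0 → ∃ x y, H x ∧ H y ∧ x + θ • y = k := by
    intro k hk
    obtain ⟨⟨⟨x, hx⟩, ⟨y, hy⟩⟩, rfl⟩ := (hτ.split hθ).2 k
    simp only at hk ⊢
    have hx' := hs x hx
    have hy' := hs y hy
    rw [map_add, map_smul, smul_eq_mul] at hk
    have hk' := congrArg σ hk
    rw [map_add, map_mul, map_zero] at hk'
    have hy0 : φ y = 0 := by
      refine (mul_eq_zero.1 (show (θ - σ θ) * φ y = 0 by linear_combination hk + hk' - hx' - (σ θ) * hy')).resolve_left ?_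
      exact sub_ne_zero.2 fun e => hθ e.symm
    exact ⟨x, y, (hH x).2 ⟨hx, by linear_combination hk - θ * hy0⟩, (hH y).2 ⟨hy, hy0⟩, rfl⟩
  have hrep : ∀ c : F, ∃ a b : F, σ a = a ∧ σ b = b ∧ c = a + θ * b := fun c => by
    have hd : θ - σ θ ≠ 0 := sub_ne_zero.2 fun e => hθ e.symm
    have hd' : σ θ - θ ≠ 0 := sub_ne_zero.2 hθ
    refine ⟨c - θ * ((c - σ c) / (θ - σ θ)), (c - σ c) / (θ - σ θ), ?_, ?_, by ring⟩
    · simp only [map_sub, map_mul, map_div₀, hτ.invol₀]; field_simp; ring
    · simp only [map_div₀, map_sub, hτ.invol₀]; field_simp; ring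
  have hmem : ∀ (c : F) a, H a → φ (c • a) = 0 := fun c a ha => by rw [map_smul, ((hH a).1 ha).2, smul_zero]
  let S : Subalgebra F K :=
    { carrier := {k | φ k = 0}
      mul_mem' := fun {k l} (hk : φ k = 0) (hl : φ l = 0) => by
        obtain ⟨x, y, hx, hy, rfl⟩ := hker k hk
        obtain ⟨x', y', hx', hy', rfl⟩ := hker l hl
        show φ _ = 0
        simp only [add_mul, mul_add, smul_mul_assoc, mul_smul_comm, map_add, map_smul,
          ((hH _).1 (hmul _ _ hx hx')).2, ((hH _).1 (hmul _ _ hx hy')).2, ((hH _).1 (hmul _ _ hy hx')).2,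
          ((hH _).1 (hmul _ _ hy hy')).2, smul_zero, add_zero]
      one_mem' := h1
      add_mem' := fun {a b} (ha : φ a = 0) (hb : φ b = 0) => show φ (a + b) = 0 by rw [map_add, ha, hb, add_zero]
      zero_mem' := map_zero φ
      algebraMap_mem' := fun c => show φ _ = 0 by
        rw [Algebra.algebraMap_eq_smul_one, map_smul, h1, smul_zero] }
  haveI := Subalgebra.isSimpleOrder_of_finrank_prime F K hr
  rcases eq_bot_or_eq_top S with hE | hE
  · have hle : LinearMap.ker φ ≤ Submodule.span F {(1 : K)} := fun a ha => by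
      obtain ⟨c, rfl⟩ := Algebra.mem_bot.1 (hE ▸ (show a ∈ S from LinearMap.mem_ker.1 ha))
      exact Submodule.mem_span_singleton.2 ⟨c, (Algebra.algebraMap_eq_smul_one c).symm⟩
    have h2 := Submodule.finrank_mono hle
    rw [finrank_span_singleton (one_ne_zero (α := K))] at h2
    have h3 := LinearMap.finrank_range_add_finrank_ker φ
    have h4 := Submodule.finrank_le (LinearMap.range φ)
    rw [Module.finrank_self] at h4
    have := hr.two_le
    omega
  · exact hφ (LinearMap.ext fun k => (hE ▸ Algebra.mem_top : k ∈ S))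

end Ext

end CfsgLib.Classical22.UField
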