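/-
A hermitian space over an extension field seen over the ground field: basic elements.
-/
import Cfsg.Agent.Lib.Classical22.UField.Counting
import Cfsg.Agent.Lib.Classical22.UnitOverSpace
import Cfsg.Agent.Lib.Transvec.UnitarySub
import Mathlib.RingTheory.Norm.Transitivity

set_option autoImplicit false
set_option linter.all false

namespace CfsgLib.Classical22.UField

open Matrix CfsgLib.Transvec
open scoped MatrixGroups

variable {ι : Type} [Fintype ι] [DecidableEq ι] {F : Type*} [Field F]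
variable {K : Type*} [Field K] [Algebra F K] [Module K (ι → F)] [IsScalarTower F K (ι → F)]

/-- The form `f` is the trace of the hermitian form `β` over `K`. -/
structure Over (σ : F ≃+* F) (τ : K ≃+* K) (f : (ι → F) → (ι → F) → F) (β : (ι → F) → (ι → F) → K) : Prop where
  uni : Cfsg.Geo.IsUnitaryForm σ f
  ext : Ext σ τ
  herm : UnitOver.Herm τ β
  form : ∀ x y, f x y = Algebra.trace F K (β x y)

/-- The hypothesis on the group. -/
def LinIn (β : (ι → F) → (ι → F) → K) (M : Subgroup (GL ι F)) : Prop :=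
  ∀ h : GL ι F, (∀ (k : K) (x : ι → F), (h : Matrix ι ι F) *ᵥ (k • x) = k • ((h : Matrix ι ι F) *ᵥ x)) →
    (∀ x y, β ((h : Matrix ι ι F) *ᵥ x) ((h : Matrix ι ι F) *ᵥ y) = β x y) →
    (h : Matrix ι ι F).det = 1 → h ∈ M

/-- The maps of the line through `v` that occur in `M`. -/
def Uni (β : (ι → F) → (ι → F) → K) (M : Subgroup (GL ι F)) (v : ι → F) (X : K → K) : Prop :=
  ∃ h ∈ M, ∀ x, (h : Matrix ι ι F) *ᵥ x = x + X (β x v) • v

omit [DecidableEq ι] [Module K (ι → F)] [IsScalarTower F K (ι → F)] in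
/-- A map with nilpotent difference from the identity has determinant one. -/
lemma det_unipotent [DecidableEq ι] (N : (ι → F) →ₗ[F] (ι → F)) (hN : IsNilpotent N) :
    LinearMap.det (LinearMap.id + N) = 1 := by
  have h1 := LinearMap.det_eq_sign_charpoly_coeff (LinearMap.id + N)
  have hcp : (LinearMap.id + N).charpoly = (Polynomial.X - Polynomial.C 1) ^ Fintype.card ι := by
    have h2 := (LinearMap.charpoly_nilpotent_tfae N).out 0 1 |>.1 hN
    have h3 : (N - (-1 : F) • LinearMap.id).charpoly = N.charpoly.comp (Polynomial.X + Polynomial.C (-1)) :=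
      LinearMap.charpoly_sub_smul N (-1)
    rw [show N - (-1 : F) • LinearMap.id = LinearMap.id + N from LinearMap.ext fun x => by simp [add_comm], h2,
      Module.finrank_fintype_fun_eq_card] at h3
    rw [h3]
    simp [sub_eq_add_neg]
  rw [h1, hcp, Polynomial.coeff_zero_eq_eval_zero, Module.finrank_fintype_fun_eq_card]
  simp [← mul_pow]

variable {σ : F ≃+* F} {τ : K ≃+* K} {f : (ι → F) → (ι → F) → F} {β : (ι → F) → (ι → F) → K}
variable {M : Subgroup (GL ι F)}

namespace Over

variable (E : Over σ τ f β)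
include E

lemma iso_of_beta {h : GL ι F} (hh : ∀ x y, β ((h : Matrix ι ι F) *ᵥ x) ((h : Matrix ι ι F) *ᵥ y) = β x y) :
    Iso f h := fun x y => by rw [E.form, E.form, hh]

lemma smul_left_F (c : F) (x y : ι → F) : β (c • x) y = algebraMap F K c * β x y := by
  rw [← algebraMap_smul K c x, E.herm.smul_left]

lemma smul_right_F (c : F) (x y : ι → F) : β x (c • y) = algebraMap F K (σ c) * β x y := by
  rw [← algebraMap_smul K c y, E.herm.smul_right, E.ext.alg]

/-- An element of the group from a unipotent map over `K`. -/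
lemma exists_elem (hM : LinIn β M) (T : (ι → F) →ₗ[K] (ι → F)) (hb : ∀ x y, β (T x) (T y) = β x y)
    (hn : ∀ x, T (T (T x - x) - (T x - x)) - (T (T x - x) - (T x - x)) = 0) :
    ∃ h ∈ M, (∀ x y, β ((h : Matrix ι ι F) *ᵥ x) ((h : Matrix ι ι F) *ᵥ y) = β x y) ∧
      (∀ (k : K) x, (h : Matrix ι ι F) *ᵥ (k • x) = k • ((h : Matrix ι ι F) *ᵥ x)) ∧
      ∀ x, (h : Matrix ι ι F) *ᵥ x = T x := by
  have hinj : Function.Injective (T.restrictScalars F) := by
    refine (injective_iff_map_eq_zero _).2 fun x hx => ?_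
    rw [LinearMap.restrictScalars_apply] at hx
    exact E.herm.nd x fun y => by rw [← hb, hx, E.herm.zero_right]
  obtain ⟨h, hh⟩ : ∃ h : GL ι F, ∀ x, (h : Matrix ι ι F) *ᵥ x = T x :=
    ⟨glOfInjective _ hinj, fun x => by rw [glOfInjective_mulVec, LinearMap.restrictScalars_apply]⟩
  obtain ⟨N, hN⟩ : ∃ N : (ι → F) →ₗ[F] (ι → F), ∀ x, N x = T x - x :=
    ⟨T.restrictScalars F - LinearMap.id, fun x => rfl⟩
  have hnil : IsNilpotent N := ⟨3, LinearMap.ext fun x => by
    simp only [pow_succ, pow_zero, one_mul, Module.End.mul_apply, hN, LinearMap.zero_apply]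
    exact hn x⟩
  have hdet : (h : Matrix ι ι F).det = 1 := by
    rw [← LinearMap.det_toLin', show Matrix.toLin' (h : Matrix ι ι F) = LinearMap.id + N from
      LinearMap.ext fun x => by simp [hh, hN]]
    exact det_unipotent N hnil
  have hl : ∀ (k : K) x, (h : Matrix ι ι F) *ᵥ (k • x) = k • ((h : Matrix ι ι F) *ᵥ x) := fun k x => by
    rw [hh, hh, map_smul]
  exact ⟨h, hM h hl (fun x y => by rw [hh, hh, hb]) hdet, fun x y => by rw [hh, hh, hb], hl, hh⟩

/-- A transvection over `K`. -/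
lemma exists_kS (hM : LinIn β M) {v : ι → F} (hv : β v v = 0) {c : K} (hc : c + τ c = 0) :
    ∃ h ∈ M, (∀ x y, β ((h : Matrix ι ι F) *ᵥ x) ((h : Matrix ι ι F) *ᵥ y) = β x y) ∧
      (∀ (k : K) x, (h : Matrix ι ι F) *ᵥ (k • x) = k • ((h : Matrix ι ι F) *ᵥ x)) ∧
      ∀ x, (h : Matrix ι ι F) *ᵥ x = x + (c * β x v) • v := by
  obtain ⟨T, hT⟩ : ∃ T : (ι → F) →ₗ[K] (ι → F), ∀ x, T x = x + (c * β x v) • v :=
    ⟨LinearMap.id + (c • E.herm.lin v).smulRight v, fun x => rfl⟩
  obtain ⟨h, hh, hb, hl, he⟩ := E.exists_elem hM T (fun x y => by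
    simp only [hT, E.herm.add_left, E.herm.add_right, E.herm.smul_left, E.herm.smul_right, hv, map_mul,
      ← E.herm.herm v y]
    linear_combination (β x v * β v y) * hc) (fun x => by
    simp [hT, E.herm.smul_left, E.herm.zero_left, hv])
  exact ⟨h, hh, hb, hl, fun x => by rw [he, hT]⟩

/-- A root element over `K` of two orthogonal isotropic vectors. -/
lemma exists_kR (hM : LinIn β M) {v u : ι → F} (hv : β v v = 0) (hu : β u u = 0) (hvu : β v u = 0) :
    ∃ h ∈ M, (∀ x y, β ((h : Matrix ι ι F) *ᵥ x) ((h : Matrix ι ι F) *ᵥ y) = β x y) ∧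
      (∀ (k : K) x, (h : Matrix ι ι F) *ᵥ (k • x) = k • ((h : Matrix ι ι F) *ᵥ x)) ∧
      ∀ x, (h : Matrix ι ι F) *ᵥ x = x + β x v • u - β x u • v := by
  have huv : β u v = 0 := E.herm.zero_comm.1 hvu
  obtain ⟨T, hT⟩ : ∃ T : (ι → F) →ₗ[K] (ι → F), ∀ x, T x = x + β x v • u - β x u • v :=
    ⟨LinearMap.id + (E.herm.lin v).smulRight u - (E.herm.lin u).smulRight v, fun x => rfl⟩
  obtain ⟨h, hh, hb, hl, he⟩ := E.exists_elem hM T (fun x y => by
    simp only [hT, E.herm.add_left, E.herm.add_right, E.herm.sub_left, E.herm.sub_right, E.herm.smul_left,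
      E.herm.smul_right, hv, hu, hvu, huv, ← E.herm.herm v y, ← E.herm.herm u y]
    ring) (fun x => by
    simp only [hT, E.herm.add_left, E.herm.sub_left, E.herm.smul_left, hv, hu, hvu, huv, mul_zero, add_zero,
      sub_zero, sub_self, add_sub_cancel_left]
    module)
  exact ⟨h, hh, hb, hl, fun x => by rw [he, hT]⟩

lemma uni_mul {v : ι → F} (hadd : ∀ a b : ι → F, β (a + b) v = β a v + β b v)
    (hs : ∀ (k : K), β (k • v) v = 0) {X Y : K → K} (hX : Uni β M v X) (hY : Uni β M v Y) :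
    Uni β M v (fun k => X k + Y k) := by
  obtain ⟨h, hh, he⟩ := hX
  obtain ⟨h', hh', he'⟩ := hY
  refine ⟨h * h', M.mul_mem hh hh', fun x => ?_⟩
  rw [mul_mulVec, he, he', hadd, hs, add_zero]
  module

lemma uni_add {v : ι → F} (hv : β v v = 0) {X Y : K → K} (hX : Uni β M v X) (hY : Uni β M v Y) :
    Uni β M v (fun k => X k + Y k) :=
  E.uni_mul (fun a b => E.herm.add_left a b v) (fun k => by rw [E.herm.smul_left, hv, mul_zero]) hX hY

lemma uni_neg {v : ι → F} (hv : β v v = 0) {X : K → K} (hX : Uni β M v X) : Uni β M v (fun k => -X k) := by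
  obtain ⟨h, hh, he⟩ := hX
  refine ⟨h⁻¹, M.inv_mem hh, fun x => mulVec_injective h ?_⟩
  simp only [mulVec_inv_cancel]
  rw [he, E.herm.add_left, E.herm.smul_left, hv, mul_zero, add_zero]
  module

lemma uni_sub {v : ι → F} (hv : β v v = 0) {X Y : K → K} (hX : Uni β M v X) (hY : Uni β M v Y) :
    Uni β M v (fun k => X k - Y k) := by
  simpa only [sub_eq_add_neg] using E.uni_add hv hX (E.uni_neg hv hY)

lemma uni_lmul (hM : LinIn β M) {v : ι → F} (hv : β v v = 0) {c : K} (hc : c + τ c = 0) :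
    Uni β M v (fun k => c * k) := by
  obtain ⟨h, hh, -, -, he⟩ := E.exists_kS hM hv hc
  exact ⟨h, hh, he⟩

end Over

end CfsgLib.Classical22.UField
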