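/-
A hermitian space over an extension field: an element outside the semilinear group leads to an element acting on
one isotropic line as a transvection.
-/
import Cfsg.Agent.Lib.Classical22.UField.Basic
import Cfsg.Agent.Lib.Classical22.FieldMaxStart

set_option autoImplicit false
set_option linter.all false

namespace CfsgLib.Classical22.UField

open Matrix CfsgLib.Transvec
open CfsgLib.Classical22.FieldMax (kLine finrank_kLine Semi)
open scoped MatrixGroups

variable {ι : Type} [Fintype ι] [DecidableEq ι] {F : Type*} [Field F] [Fintype F]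
variable {K : Type*} [Field K] [Algebra F K] [Module K (ι → F)] [IsScalarTower F K (ι → F)]
variable [FiniteDimensional F K]
variable {σ : F ≃+* F} {τ : K ≃+* K} {f : (ι → F) → (ι → F) → F} {β : (ι → F) → (ι → F) → K}
variable {M : Subgroup (GL ι F)}

/-- The image of a subspace. -/
noncomputable abbrev img (g : GL ι F) (Z : Submodule F (ι → F)) : Submodule F (ι → F) :=
  Z.map (Matrix.toLin' (g : Matrix ι ι F))

omit [Fintype F] [Module K (ι → F)] [IsScalarTower F K (ι → F)] [FiniteDimensional F K] in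
lemma finrank_img (g : GL ι F) (Z : Submodule F (ι → F)) : Module.finrank F (img g Z) = Module.finrank F Z :=
  (Submodule.equivMapOfInjective (Matrix.toLin' (g : Matrix ι ι F))
    (fun a b h => mulVec_injective g (by simpa using h)) Z).finrank_eq.symm

/-- A power of an element outside the ground field is not in the span of few smaller powers. -/
theorem pow_three_notMem (h5 : Module.finrank F K = 5) {ρ : K} (hρ : ∀ c : F, algebraMap F K c ≠ ρ)
    {U : Submodule F K} (hU : Module.finrank F U ≤ 3) (h0 : (1 : K) ∈ U) (h1 : ρ ∈ U) (h2 : ρ ^ 2 ∈ U) :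
    ρ ^ 3 ∉ U := by
  intro h3
  have hint : IsIntegral F ρ := Algebra.IsIntegral.isIntegral ρ
  have hne : (minpoly F ρ).natDegree ≠ 1 := fun h => by
    obtain ⟨c, hc⟩ := minpoly.natDegree_eq_one_iff.1 h
    exact hρ c hc
  have hdeg : (minpoly F ρ).natDegree = 5 :=
    ((Nat.dvd_prime (by norm_num)).1 (h5 ▸ minpoly.degree_dvd hint)).resolve_left hne
  have hli : LinearIndependent F fun i : Fin 4 => ρ ^ (i : ℕ) := by
    have h := linearIndependent_pow (K := F) ρ
    exact h.comp (Fin.castLE (by omega)) (Fin.castLE_injective _)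
  have hsub : Submodule.span F (Set.range fun i : Fin 4 => ρ ^ (i : ℕ)) ≤ U :=
    Submodule.span_le.2 (by rintro _ ⟨i, rfl⟩; fin_cases i <;> simp_all)
  have := Submodule.finrank_mono hsub
  rw [finrank_span_eq_card hli, Fintype.card_fin] at this
  omega

namespace Over

variable (E : Over σ τ f β)
include E

omit [Fintype F] [FiniteDimensional F K] in
lemma smulF (c : F) (x : ι → F) (v : ι → F) : β (c • x) v = c • β x v := by
  rw [E.smul_left_F, Algebra.smul_def]

/-- `x ↦ β x v` over `F`. -/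
noncomputable def rho (v : ι → F) : (ι → F) →ₗ[F] K where
  toFun x := β x v
  map_add' x y := E.herm.add_left x y v
  map_smul' c x := E.smulF c x v

variable (hM : LinIn β M)
include hM

omit [FiniteDimensional F K] [Fintype F] in
/-- A larger intersection from an element fixing a line pointwise. -/
lemma gain_aux {Z : Submodule F (ι → F)} [Finite (ι → F)] {v : ι → F} {t : GL ι F}
    (hl : ∀ (k : K) x, (t : Matrix ι ι F) *ᵥ (k • x) = k • ((t : Matrix ι ι F) *ᵥ x))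
    (htv : (t : Matrix ι ι F) *ᵥ v = v) {z z' : ι → F} (hz : z ∈ Z) (hzL : z ∉ kLine (K := K) v)
    (htz : (t : Matrix ι ι F) *ᵥ z ∈ Z) (hz' : z' ∈ Z) (htz' : (t : Matrix ι ι F) *ᵥ z' ∉ Z) :
    Module.finrank F ↥(Z ⊓ kLine (K := K) v) < Module.finrank F ↥(Z ⊓ img t Z) ∧
      Module.finrank F ↥(Z ⊓ img t Z) < Module.finrank F Z := by
  have hfix : ∀ x ∈ kLine (K := K) v, (t : Matrix ι ι F) *ᵥ x = x := fun x hx => by
    obtain ⟨k, rfl⟩ := Submodule.mem_span_singleton.1 hx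
    rw [hl, htv]
  refine ⟨Submodule.finrank_lt_finrank_of_lt (lt_of_le_not_ge ?_ fun h => ?_),
    Submodule.finrank_lt_finrank_of_lt (lt_of_le_not_ge inf_le_left fun h => ?_)⟩
  · exact fun x hx => ⟨hx.1, x, hx.1, by rw [Matrix.toLin'_apply, hfix x hx.2]⟩
  · have h1 : (t : Matrix ι ι F) *ᵥ z ∈ kLine (K := K) v :=
      (h ⟨htz, z, hz, by rw [Matrix.toLin'_apply]⟩).2
    exact hzL (by rwa [← mulVec_injective t (hfix _ h1)])
  · have h1 : Z ≤ img t Z := h.trans inf_le_right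
    have h2 : Z = img t Z := Submodule.eq_of_le_of_finrank_le h1 (finrank_img t Z).le
    exact htz' (h2 ▸ ⟨z', hz', by rw [Matrix.toLin'_apply]⟩)

/-- The root element with a given partner. -/
lemma exists_kR_scaled {v u : ι → F} (hv : β v v = 0) (hu : β u u = 0) (hvu : β u v = 0) (s : K) :
    ∃ t ∈ M, (∀ x y, β ((t : Matrix ι ι F) *ᵥ x) ((t : Matrix ι ι F) *ᵥ y) = β x y) ∧
      (∀ (k : K) x, (t : Matrix ι ι F) *ᵥ (k • x) = k • ((t : Matrix ι ι F) *ᵥ x)) ∧
      ((t : Matrix ι ι F) *ᵥ v = v) ∧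
      ∀ x, (t : Matrix ι ι F) *ᵥ x = x + β x v • s • u - (τ s * β x u) • v := by
  obtain ⟨t, ht, hb, hl, he⟩ := E.exists_kR hM (v := v) (u := s • u) hv
    (by rw [E.herm.smul_left, E.herm.smul_right, hu, mul_zero, mul_zero])
    (by rw [E.herm.smul_right, E.herm.zero_comm.1 hvu, mul_zero])
  refine ⟨t, ht, hb, hl, ?_, fun x => by rw [he, E.herm.smul_right]⟩
  rw [he, E.herm.smul_right, hv, E.herm.zero_comm.1 hvu, zero_smul, mul_zero, zero_smul, add_zero, sub_zero]

omit hM in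
/-- Skew multiples of a non-zero element do not fit into a proper subspace. -/
lemma exists_skew_notMem {W : Submodule F K} (hW : W ≠ ⊤) {b : K} (hb : b ≠ 0) : ∃ s, s + τ s = 0 ∧ s * b ∉ W := by
  by_contra hc
  push Not at hc
  refine hW (Submodule.eq_top_iff'.2 fun k => ?_)
  obtain ⟨θ, hθ⟩ := E.ext.exists_scalar
  obtain ⟨ζ, hζ0, hζ⟩ := E.ext.exists_skew_scalar
  obtain ⟨⟨x, y⟩, hxy⟩ := (E.ext.split hθ).2 (k / b)
  simp only at hxy
  have h1 : ∀ a : fixG τ, (a : K) * b ∈ W := fun a => by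
    have := W.smul_mem ζ⁻¹ (hc _ (E.ext.skew_smul_fix hζ a.2))
    rwa [smul_mul_assoc, inv_smul_smul₀ hζ0] at this
  rw [← div_mul_cancel₀ k hb, ← hxy, add_mul, smul_mul_assoc]
  exact W.add_mem (h1 x) (W.smul_mem θ (h1 y))

omit hM in
/-- The subspace of scalars sending `v` into `Z`. -/
lemma exists_scalars (Z : Submodule F (ι → F)) {v : ι → F} (hv0 : v ≠ 0) :
    ∃ W : Submodule F K, (∀ k, k ∈ W ↔ k • v ∈ Z) ∧
      Module.finrank F W = Module.finrank F ↥(Z ⊓ kLine (K := K) v) := by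
  obtain ⟨j, hj⟩ : ∃ j : K →ₗ[F] (ι → F), ∀ k, j k = k • v :=
    ⟨(LinearMap.toSpanSingleton K (ι → F) v).restrictScalars F, fun k => rfl⟩
  refine ⟨Z.comap j, fun k => by rw [Submodule.mem_comap, hj], ?_⟩
  have hinj : Function.Injective j := fun a b h => smul_left_injective K hv0 (by simpa [hj] using h)
  rw [(Submodule.equivMapOfInjective j hinj _).finrank_eq, Submodule.map_comap_eq]
  rw [show LinearMap.range j = kLine (K := K) v from SetLike.ext fun x => by
    simp [LinearMap.mem_range, hj, Submodule.mem_span_singleton], inf_comm]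

variable (hr : Module.finrank F K = 3 ∨ Module.finrank F K = 5)
  (hsep : ∀ v z : ι → F, v ≠ 0 → β v v = 0 → β z v = 0 → z ∉ kLine (K := K) v →
    ∃ u, β u u = 0 ∧ β u v = 0 ∧ β z u ≠ 0)
include hr hsep

/-- Enlarging the intersection with a line. -/
theorem exists_gain {Z : Submodule F (ι → F)} (hZ : Module.finrank F Z = Module.finrank F K)
    (hiso : ∀ x ∈ Z, ∀ y ∈ Z, f x y = 0) {v : ι → F} (hv0 : v ≠ 0) (hv : β v v = 0) (hvZ : v ∈ Z)
    (hd : Module.finrank F ↥(Z ⊓ kLine (K := K) v) + 2 ≤ Module.finrank F K) :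
    ∃ t ∈ M, Module.finrank F ↥(Z ⊓ kLine (K := K) v) < Module.finrank F ↥(Z ⊓ img t Z) ∧
      Module.finrank F ↥(Z ⊓ img t Z) < Module.finrank F K := by
  classical
  haveI : Finite (ι → F) := Pi.finite
  haveI : Finite K := Module.finite_of_finite F
  have hrp : (Module.finrank F K).Prime := by rcases hr with h | h <;> rw [h] <;> norm_num
  obtain ⟨W, hW, hWd⟩ := E.exists_scalars Z hv0
  rw [← hWd] at hd ⊢
  have fin : ∀ {t : GL ι F}, t ∈ M → (∀ (k : K) x, (t : Matrix ι ι F) *ᵥ (k • x) = k • ((t : Matrix ι ι F) *ᵥ x)) →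
      (t : Matrix ι ι F) *ᵥ v = v → ∀ {z z' : ι → F}, z ∈ Z → z ∉ kLine (K := K) v →
      (t : Matrix ι ι F) *ᵥ z ∈ Z → z' ∈ Z → (t : Matrix ι ι F) *ᵥ z' ∉ Z →
      ∃ t ∈ M, Module.finrank F W < Module.finrank F ↥(Z ⊓ img t Z) ∧
        Module.finrank F ↥(Z ⊓ img t Z) < Module.finrank F K := fun {t} ht hl htv {z z'} a b c d e => by
    have := E.gain_aux hM hl htv a b c d e
    rw [← hWd, hZ] at this
    exact ⟨t, ht, this⟩
  have hWtop : W ≠ ⊤ := fun h => by
    rw [h, finrank_top] at hd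
    omega
  have h1W : (1 : K) ∈ W := (hW 1).2 (by rwa [one_smul])
  obtain ⟨k₀, hk₀⟩ : ∃ k₀, k₀ ∉ W := by
    by_contra h
    push Not at h
    exact hWtop (Submodule.eq_top_iff'.2 h)
  have hline : ∀ k : K, k • v ∈ kLine (K := K) v := fun k =>
    Submodule.smul_mem _ k (Submodule.mem_span_singleton_self v)
  by_cases hA : ∃ z ∈ Z, z ∉ kLine (K := K) v ∧ β z v = 0
  · obtain ⟨z, hz, hzL, hzv⟩ := hA
    obtain ⟨u, hu, huv, hzu⟩ := hsep v z hv0 hv hzv hzL
    have hmem : ∀ {t : GL ι F} {x : ι → F} {μ : K}, x ∈ Z → (t : Matrix ι ι F) *ᵥ x = x + μ • v →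
        ((t : Matrix ι ι F) *ᵥ x ∈ Z ↔ μ ∈ W) := fun {t x μ} hx e => by
      rw [e, Z.add_mem_iff_right hx, hW]
    by_cases hρ : ∃ z₂ ∈ Z, β z₂ v ≠ 0
    · obtain ⟨z₂, hz₂, hb₂⟩ := hρ
      obtain ⟨s, hs⟩ : ∃ s, τ s = -(β z u)⁻¹ := ⟨τ (-(β z u)⁻¹), E.ext.invol _⟩
      have hs0 : s ≠ 0 := fun h => by rw [h, map_zero] at hs; exact hzu (by simpa using hs.symm)
      have key : ∀ l : K, ∃ t ∈ M, (∀ (k : K) x, (t : Matrix ι ι F) *ᵥ (k • x) = k • ((t : Matrix ι ι F) *ᵥ x)) ∧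
          (t : Matrix ι ι F) *ᵥ v = v ∧ (t : Matrix ι ι F) *ᵥ z ∈ Z ∧
          (t : Matrix ι ι F) *ᵥ z₂ = z₂ + β z₂ v • s • u - (τ s * β z₂ u) • v + ((l * s - τ (l * s)) * β z₂ v) • v := by
        intro l
        obtain ⟨t, ht, -, hl, htv, he⟩ := E.exists_kR_scaled hM hv (u := u + l • v)
          (by simp only [E.herm.add_left, E.herm.add_right, E.herm.smul_left, E.herm.smul_right, hu, hv, huv,
            E.herm.zero_comm.1 huv]; ring)
          (by rw [E.herm.add_left, E.herm.smul_left, huv, hv, mul_zero, add_zero]) s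
        refine ⟨t, ht, hl, htv, (hmem (μ := 1) hz ?_).2 h1W, ?_⟩
        · rw [he, hzv, zero_smul, add_zero, E.herm.add_right, E.herm.smul_right, hzv, mul_zero, add_zero, hs,
            neg_mul, inv_mul_cancel₀ hzu, neg_smul, sub_neg_eq_add]
        · rw [he, E.herm.add_right, E.herm.smul_right, map_mul]
          module
      obtain ⟨t₀, ht₀, hl₀, hv₀, hz₀, he₀⟩ := key 0
      simp only [zero_mul, map_zero, sub_zero, zero_smul, add_zero] at he₀
      by_cases hbad : (t₀ : Matrix ι ι F) *ᵥ z₂ ∈ Z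
      swap
      · exact fin ht₀ hl₀ hv₀ hz hzL hz₀ hz₂ hbad
      obtain ⟨σ₁, hσ₁, hσW⟩ := E.exists_skew_notMem hWtop hb₂
      obtain ⟨e, he⟩ := Algebra.trace_surjective F K 1
      obtain ⟨θ, hθ⟩ := E.ext.exists_scalar
      obtain ⟨l, hl⟩ : ∃ l : K, l * s - τ (l * s) = σ₁ := by
        have hd' : algebraMap F K θ - algebraMap F K (σ θ) ≠ 0 :=
          sub_ne_zero.2 fun e => hθ ((algebraMap F K).injective e).symm
        refine ⟨algebraMap F K θ / (algebraMap F K θ - algebraMap F K (σ θ)) * σ₁ / s, ?_⟩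
        rw [div_mul_cancel₀ _ hs0, map_mul, map_div₀, map_sub, E.ext.alg, E.ext.alg, E.ext.invol₀,
          show τ σ₁ = -σ₁ by linear_combination hσ₁, ← neg_sub (algebraMap F K θ), div_neg]
        field_simp
      obtain ⟨t, ht, hlt, htv, htz, het⟩ := key l
      refine fin ht hlt htv hz hzL htz hz₂ fun h => hσW ?_
      rw [hW, ← hl, ← Z.add_mem_iff_right (x := (t₀ : Matrix ι ι F) *ᵥ z₂) hbad, he₀, ← het]
      exact h
    · push Not at hρ
      have key : ∀ c : K, ∃ t ∈ M, (∀ (k : K) x, (t : Matrix ι ι F) *ᵥ (k • x) = k • ((t : Matrix ι ι F) *ᵥ x)) ∧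
          (t : Matrix ι ι F) *ᵥ v = v ∧ ∀ x ∈ Z, ((t : Matrix ι ι F) *ᵥ x ∈ Z ↔ c * β x u ∈ W) := by
        intro c
        obtain ⟨t, ht, -, hl, htv, he⟩ := E.exists_kR_scaled hM hv hu huv (τ (-c))
        refine ⟨t, ht, hl, htv, fun x hx => hmem hx ?_⟩
        rw [he, hρ x hx, zero_smul, add_zero, E.ext.invol, neg_mul, neg_smul, sub_neg_eq_add]
      by_cases hψ : ∃ z' ∈ Z, ∀ c : F, algebraMap F K c ≠ β z' u / β z u
      · obtain ⟨z', hz', hne⟩ := hψ
        obtain ⟨μ, hμ, -, hμ'⟩ := SpField.exists_mul_notMem hrp h1W hk₀ hne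
        obtain ⟨t, ht, hl, htv, he⟩ := key (μ / β z u)
        refine fin ht hl htv hz hzL ((he z hz).2 (by rwa [div_mul_cancel₀ _ hzu])) hz' fun h => hμ' ?_
        have := (he z' hz').1 h
        rwa [show μ / β z u * β z' u = β z' u / β z u * μ by ring] at this
      · push Not at hψ
        obtain ⟨t, ht, hl, htv, he⟩ := key (k₀ / β z u)
        obtain ⟨ψ, hψ'⟩ : ∃ ψ : Z →ₗ[F] K, ∀ x : Z, ψ x = β (x : ι → F) u :=
          ⟨(E.rho u).comp Z.subtype, fun x => rfl⟩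
        have h1 := LinearMap.finrank_range_add_finrank_ker ψ
        have h2 : Module.finrank F (LinearMap.range ψ) ≤ 1 := by
          refine le_trans (Submodule.finrank_mono (t := Submodule.span F {β z u}) ?_)
            (le_trans (finrank_span_le_card _) (by simp))
          rintro _ ⟨x, rfl⟩
          obtain ⟨c, hc⟩ := hψ x x.2
          rw [eq_div_iff hzu] at hc
          exact Submodule.mem_span_singleton.2 ⟨c, by rw [hψ', Algebra.smul_def, hc]⟩
        obtain ⟨x, hx, hxL⟩ : ∃ x ∈ LinearMap.ker ψ, (x : ι → F) ∉ kLine (K := K) v := by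
          by_contra h
          push Not at h
          have h3 := Submodule.finrank_mono (show (LinearMap.ker ψ).map Z.subtype ≤ Z ⊓ kLine (K := K) v by
            rintro _ ⟨x, hx, rfl⟩; exact ⟨x.2, h x hx⟩)
          rw [Submodule.finrank_map_subtype_eq, ← hWd] at h3
          rw [hZ] at h1
          omega
        rw [LinearMap.mem_ker, hψ'] at hx
        refine fin ht hl htv x.2 hxL ((he _ x.2).2 (by rw [hx, mul_zero]; exact W.zero_mem)) hz fun h => hk₀ ?_
        have := (he z hz).1 h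
        rwa [div_mul_cancel₀ _ hzu] at this
  push Not at hA
  obtain ⟨ρ, hρ⟩ : ∃ ρ : Z →ₗ[F] K, ∀ x : Z, ρ x = β (x : ι → F) v := ⟨(E.rho v).comp Z.subtype, fun x => rfl⟩
  obtain ⟨B, hB⟩ : ∃ B, B = LinearMap.range ρ := ⟨_, rfl⟩
  have hBd : Module.finrank F B + Module.finrank F W = Module.finrank F K := by
    have h1 := LinearMap.finrank_range_add_finrank_ker ρ
    have h2 : (LinearMap.ker ρ).map Z.subtype = Z ⊓ kLine (K := K) v := by
      refine le_antisymm ?_ fun x hx => ⟨⟨x, hx.1⟩, ?_, rfl⟩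
      · rintro _ ⟨x, hx, rfl⟩
        refine ⟨x.2, by_contra fun h => hA x x.2 h ?_⟩
        rw [← hρ]; exact hx
      · obtain ⟨k, hk⟩ := Submodule.mem_span_singleton.1 hx.2
        rw [SetLike.mem_coe, LinearMap.mem_ker, hρ, Submodule.coe_mk, ← hk, E.herm.smul_left, hv, mul_zero]
    rw [hWd, ← h2, Submodule.finrank_map_subtype_eq, hB, h1, hZ]
  have hBmem : ∀ b ∈ B, ∃ x ∈ Z, β x v = b := fun b hb => by
    obtain ⟨x, rfl⟩ := (hB ▸ hb : b ∈ LinearMap.range ρ)
    exact ⟨x, x.2, (hρ x).symm⟩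
  have gainS : ∀ s : K, s + τ s = 0 → ∀ b ∈ B, b ≠ 0 → s * b ∈ W → (∃ b' ∈ B, s * b' ∉ W) →
      ∃ t ∈ M, Module.finrank F W < Module.finrank F ↥(Z ⊓ img t Z) ∧
        Module.finrank F ↥(Z ⊓ img t Z) < Module.finrank F K := by
    intro s hs b hb hb0 hsb ⟨b', hb', hsb'⟩
    obtain ⟨z, hz, rfl⟩ := hBmem b hb
    obtain ⟨z', hz', rfl⟩ := hBmem b' hb'
    obtain ⟨t, ht, -, hl, he⟩ := E.exists_kS hM hv hs
    refine fin ht hl (by rw [he, hv, mul_zero, zero_smul, add_zero]) hz (fun h => hb0 ?_) ?_ hz' ?_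
    · obtain ⟨k, rfl⟩ := Submodule.mem_span_singleton.1 h
      rw [E.herm.smul_left, hv, mul_zero]
    · rw [he, Z.add_mem_iff_right hz, ← hW]; exact hsb
    · rw [he, Z.add_mem_iff_right hz', ← hW]; exact hsb'
  have hperp : ∀ w ∈ W, ∀ b ∈ B, Algebra.trace F K (w * τ b) = 0 := fun w hw b hb => by
    obtain ⟨x, hx, rfl⟩ := hBmem b hb
    rw [← E.herm.herm v x, ← E.herm.smul_left, ← E.form]
    exact hiso _ ((hW w).1 hw) _ hx
  have hQ : ∀ S : Submodule F K, Nat.card S = Nat.card F ^ Module.finrank F S := fun S =>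
    Module.natCard_eq_pow_finrank
  have hQK : Nat.card K = Nat.card F ^ Module.finrank F K := Module.natCard_eq_pow_finrank
  -- a skew element mapping part of `B` into `W`
  obtain ⟨p, hchar⟩ := CharP.exists F
  haveI : CharP K p := charP_of_injective_algebraMap (algebraMap F K).injective p
  haveI : Fact p.Prime := ⟨CharP.char_is_prime F p⟩
  obtain ⟨Φ, hΦ⟩ : ∃ Φ : W × B →+ W × B →+ K, ∀ a b, Φ a b = (a.1 : K) * τ (b.2 : K) + (a.2 : K) * τ (b.1 : K) := by
    refine ⟨AddMonoidHom.mk' (fun a => AddMonoidHom.mk'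
      (fun b => (a.1 : K) * τ (b.2 : K) + (a.2 : K) * τ (b.1 : K)) fun b b' => ?_) fun a a' => ?_, fun a b => rfl⟩
    · simp only [Prod.fst_add, Prod.snd_add, Submodule.coe_add, map_add]; ring
    · ext b
      simp only [AddMonoidHom.mk'_apply, AddMonoidHom.add_apply, Prod.fst_add, Prod.snd_add, Submodule.coe_add]
      ring
  obtain ⟨T, hT⟩ : ∃ T : AddSubgroup K, ∀ k, k ∈ T ↔ τ k = k ∧ Algebra.trace F K k = 0 :=
    ⟨fixG τ ⊓ (LinearMap.ker (Algebra.trace F K)).toAddSubgroup, fun k => Iff.rfl⟩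
  have hpK : ∀ k : K, p • k = 0 := fun k => by rw [nsmul_eq_mul, CharP.cast_eq_zero, zero_mul]
  have hdvd := dvd_card_zero (p := p) (fun a => Prod.ext (Subtype.ext (by simpa using hpK a.1))
    (Subtype.ext (by simpa using hpK a.2))) hpK Φ T (fun a => by
      rw [hT, hΦ]
      have h1 := hperp _ a.1.2 _ a.2.2
      refine ⟨by simp only [map_add, map_mul, E.ext.invol]; ring, ?_⟩
      rw [map_add, h1, zero_add, show (a.2 : K) * τ (a.1 : K) = τ ((a.1 : K) * τ (a.2 : K)) by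
        rw [map_mul, E.ext.invol, mul_comm], E.ext.trace_tau, h1, map_zero]) (by
      rw [Nat.card_prod, hQ, hQ, ← pow_add, add_comm, hBd, ← hQK]
      exact E.ext.card_traceZero_lt T fun k hk => (hT k).1 hk)
  obtain ⟨w, b, hw, hb, hb0, hw0, hwb⟩ : ∃ w b : K, w ∈ W ∧ b ∈ B ∧ b ≠ 0 ∧ w ≠ 0 ∧ w * τ b + b * τ w = 0 := by
    by_contra hc
    push Not at hc
    have hset : {a : W × B | Φ a a = 0} = Set.univ ×ˢ {0} ∪ {0} ×ˢ Set.univ := by
      ext a
      simp only [Set.mem_setOf_eq, Set.mem_union, Set.mem_prod, Set.mem_univ, Set.mem_singleton_iff, true_and,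
        and_true, hΦ]
      refine ⟨fun h => ?_, fun h => ?_⟩
      · by_contra h'
        push Not at h'
        exact hc a.1 a.2 a.1.2 a.2.2 (fun e => h'.1 (Subtype.ext e)) (fun e => h'.2 (Subtype.ext e)) h
      · rcases h with h | h <;> simp [h]
    have hcard := Set.ncard_union_add_ncard_inter (Set.univ ×ˢ ({0} : Set B) : Set (W × B)) (({0} : Set W) ×ˢ Set.univ)
    rw [← hset, Set.prod_inter_prod, Set.univ_inter, Set.inter_univ, Set.ncard_prod, Set.ncard_prod, Set.ncard_prod,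
      Set.ncard_univ, Set.ncard_univ, Set.ncard_singleton, Set.ncard_singleton] at hcard
    rw [← Set.coe_setOf, Nat.card_coe_set_eq] at hdvd
    have hWp : p ∣ Nat.card W := by
      obtain ⟨n, -, hn⟩ := FiniteField.card F p
      rw [hQ, Nat.card_eq_fintype_card, hn]
      refine dvd_pow (dvd_pow_self p n.ne_zero) fun h => ?_
      rw [Submodule.finrank_eq_zero.1 h] at h1W
      exact one_ne_zero ((Submodule.mem_bot F).1 h1W)
    have hBp : p ∣ Nat.card B := by
      obtain ⟨n, -, hn⟩ := FiniteField.card F p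
      rw [hQ, Nat.card_eq_fintype_card, hn]
      exact dvd_pow (dvd_pow_self p n.ne_zero) (by omega)
    have h2 := Nat.dvd_sub (by simpa using dvd_add hWp hBp : p ∣ Nat.card W * 1 + 1 * Nat.card B) hdvd
    rw [← hcard, Nat.add_sub_cancel_left, one_mul, Nat.dvd_one] at h2
    exact (Fact.out : p.Prime).one_lt.ne' h2
  obtain ⟨s, hsdef⟩ : ∃ s, s = w / b := ⟨_, rfl⟩
  have hs : s + τ s = 0 := by
    rw [hsdef, map_div₀, div_add_div _ _ hb0 ((map_ne_zero_iff _ τ.injective).2 hb0)]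
    exact div_eq_zero_iff.2 (Or.inl hwb)
  by_cases hs' : ∃ b' ∈ B, s * b' ∉ W
  · exact gainS s hs b hb hb0 (by rwa [hsdef, div_mul_cancel₀ _ hb0]) hs'
  push Not at hs'
  have hs0 : s ≠ 0 := hsdef ▸ div_ne_zero hw0 hb0
  have hBW : Module.finrank F B ≤ Module.finrank F W :=
    LinearMap.finrank_le_finrank_of_injective (f := ((LinearMap.mulLeft F s).comp B.subtype).codRestrict W
      fun x => hs' x x.2) fun x y h => Subtype.ext (mul_left_cancel₀ hs0 (congrArg Subtype.val h))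
  have h5 : Module.finrank F K = 5 := hr.resolve_left fun h => by omega
  have hW3 : Module.finrank F W = 3 := by omega
  have hB2 : Module.finrank F B = 2 := by omega
  obtain ⟨b₁, hb₁, hb₁'⟩ : ∃ b₁ ∈ B, b₁ ∉ Submodule.span F {b} := by
    by_contra h
    push Not at h
    have := Submodule.finrank_mono (show B ≤ Submodule.span F {b} from h)
    rw [finrank_span_singleton hb0] at this
    omega
  obtain ⟨Ψ, hΨ⟩ : ∃ Ψ : K →ₗ[F] F × F, ∀ k, Ψ k = (Algebra.trace F K (k * τ b), Algebra.trace F K (k * τ b₁)) :=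
    ⟨((Algebra.trace F K).comp (LinearMap.mulRight F (τ b))).prod
      ((Algebra.trace F K).comp (LinearMap.mulRight F (τ b₁))), fun k => rfl⟩
  have hWker : W = LinearMap.ker Ψ := by
    refine Submodule.eq_of_le_of_finrank_le (fun k hk => LinearMap.mem_ker.2 (by
      rw [hΨ, hperp k hk b hb, hperp k hk b₁ hb₁]; rfl)) ?_
    have hsurj : ∀ x y : K, x ∉ Submodule.span F {y} →
        ∃ k, Algebra.trace F K (k * x) = 1 ∧ Algebra.trace F K (k * y) = 0 := by
      intro x y hxy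
      obtain ⟨g, hg, hg'⟩ := Submodule.exists_dual_map_eq_bot_of_notMem hxy inferInstance
      obtain ⟨k, hk⟩ := ((Algebra.traceForm F K).toDual (traceForm_nondegenerate F K)).surjective ((g x)⁻¹ • g)
      have e : ∀ a, Algebra.trace F K (k * a) = (g x)⁻¹ * g a := fun a => by
        rw [← Algebra.traceForm_apply, ← LinearMap.BilinForm.toDual_def (b := traceForm_nondegenerate F K), hk]; rfl
      refine ⟨k, by rw [e, inv_mul_cancel₀ hg], ?_⟩
      rw [e, show g y = 0 from (Submodule.mem_bot F).1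
        (hg' ▸ Submodule.mem_map_of_mem (Submodule.mem_span_singleton_self y)), mul_zero]
    have htau : ∀ x y : K, x ∉ Submodule.span F {y} → τ x ∉ Submodule.span F {τ y} := fun x y h hm => by
      obtain ⟨c, hc⟩ := Submodule.mem_span_singleton.1 hm
      exact h (Submodule.mem_span_singleton.2 ⟨σ c, τ.injective (by rw [E.ext.smul_tau, E.ext.invol₀, hc])⟩)
    have hbb : b ∉ Submodule.span F {b₁} := fun hm => by
      obtain ⟨c, hc⟩ := Submodule.mem_span_singleton.1 hm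
      have hc0 : c ≠ 0 := fun h => hb0 (by rw [← hc, h, zero_smul])
      exact hb₁' (Submodule.mem_span_singleton.2 ⟨c⁻¹, by rw [← hc, inv_smul_smul₀ hc0]⟩)
    obtain ⟨k, hk, hk'⟩ := hsurj _ _ (htau _ _ hbb)
    obtain ⟨k₁, hk₁, hk₁'⟩ := hsurj _ _ (htau _ _ hb₁')
    have htop : LinearMap.range Ψ = ⊤ := Submodule.eq_top_iff'.2 fun x =>
      ⟨x.1 • k + x.2 • k₁, by simp [hΨ, add_mul, smul_mul_assoc, hk, hk', hk₁, hk₁']⟩
    have := LinearMap.finrank_range_add_finrank_ker Ψ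
    rw [htop, finrank_top, Module.finrank_prod, Module.finrank_self] at this
    omega
  -- the skew elements sending `b` into `W`
  obtain ⟨Θ, hΘ⟩ : ∃ Θ : skewG τ →+ skewG σ × F, ∀ k, ((Θ k).1 : F) = Algebra.trace F K (k * b * τ b) ∧
      (Θ k).2 = Algebra.trace F K (k * b * τ b₁) := by
    refine ⟨AddMonoidHom.mk' (fun k => (⟨Algebra.trace F K (k * b * τ b), mem_skew.2 (E.ext.trace_skew ?_)⟩,
      Algebra.trace F K (k * b * τ b₁))) (fun k l => Prod.ext (Subtype.ext ?_) ?_), fun k => ⟨rfl, rfl⟩⟩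
    · simp only [map_mul, E.ext.invol]; linear_combination (b * τ b) * mem_skew.1 k.2
    · simp [add_mul]
    · simp [add_mul]
  have hσσ : Ext (F := F) (K := F) σ σ := ⟨E.ext.ne_refl, E.ext.invol₀, E.ext.invol₀, fun c => rfl⟩
  obtain ⟨q, hq⟩ : ∃ q, q = Nat.card (fixG σ) := ⟨_, rfl⟩
  have hqF : q ^ 2 = Nat.card F := hq ▸ hσσ.card_fix
  have hqs : Nat.card (skewG σ) = q := hq ▸ hσσ.card_skew
  have hsk : Nat.card (skewG τ) = q ^ 5 := by
    refine Nat.pow_left_injective two_ne_zero ?_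
    simp only
    rw [E.ext.card_skew, E.ext.card_fix, hQK, h5, ← hqF, ← pow_mul, ← pow_mul]
  have hker : q < Nat.card Θ.ker := by
    have hq1 : 1 < q := by
      have := hqF ▸ Finite.one_lt_card (α := F)
      nlinarith
    have h1 := AddSubgroup.card_eq_card_quotient_mul_card_addSubgroup Θ.ker
    rw [Nat.card_congr (QuotientAddGroup.quotientKerEquivRange Θ).toEquiv, hsk] at h1
    have h2 : Nat.card Θ.range ≤ q ^ 3 := by
      refine (Nat.card_le_card_of_injective _ (Subtype.val_injective)).trans (le_of_eq ?_)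
      rw [Nat.card_prod, hqs, ← hqF]; ring
    by_contra h3
    push Not at h3
    have : q ^ 5 ≤ q ^ 3 * q := h1 ▸ Nat.mul_le_mul h2 h3
    rw [← pow_succ] at this
    exact absurd this (not_le.2 (Nat.pow_lt_pow_right hq1 (by norm_num)))
  have hkW : ∀ k : skewG τ, k ∈ Θ.ker → (k : K) * b ∈ W := fun k hk => by
    rw [hWker, LinearMap.mem_ker, hΨ, ← (hΘ k).1, ← (hΘ k).2, AddMonoidHom.mem_ker.1 hk]
    simp
  obtain ⟨s', hs'k, hind⟩ : ∃ s' ∈ Θ.ker, ∀ c : F, algebraMap F K c ≠ (s' : K) / s := by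
    by_contra h
    push Not at h
    choose c hc using h
    refine absurd hker (not_lt.2 (hq ▸ Nat.card_le_card_of_injective
      (fun k : Θ.ker => (⟨c k.1 k.2, ?_⟩ : fixG σ)) fun k l e => ?_))
    · refine mem_fix.2 ((algebraMap F K).injective ?_)
      rw [← E.ext.alg, hc, map_div₀, show τ (k.1 : K) = -(k.1 : K) by linear_combination mem_skew.1 k.1.2,
        show τ s = -s by linear_combination hs, neg_div_neg_eq]
    · have h1 := congrArg (fun x : fixG σ => algebraMap F K (x : F)) e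
      simp only [hc] at h1
      exact Subtype.ext (Subtype.ext ((div_left_inj' hs0).1 h1))
  by_cases hs'' : ∃ b' ∈ B, (s' : K) * b' ∉ W
  · exact gainS s' (mem_skew.1 s'.2) b hb hb0 (hkW s' hs'k) hs''
  push Not at hs''
  -- two elements give a line of multiples
  obtain ⟨ρ', hρ'⟩ : ∃ ρ', ρ' = (s' : K) / s := ⟨_, rfl⟩
  obtain ⟨y, hy, hy0, hyρ⟩ : ∃ y ∈ B, y ≠ 0 ∧ ρ' * y ∈ B := by
    obtain ⟨L, hL⟩ : ∃ L : B × B →ₗ[F] K, ∀ a, L a = (s' : K) * a.1 - s * a.2 :=
      ⟨((LinearMap.mulLeft F (s' : K)).comp B.subtype).comp (LinearMap.fst F B B) -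
        ((LinearMap.mulLeft F s).comp B.subtype).comp (LinearMap.snd F B B), fun a => rfl⟩
    have h1 := LinearMap.finrank_range_add_finrank_ker L
    rw [Module.finrank_prod, hB2] at h1
    have h2 := Submodule.finrank_mono (show LinearMap.range L ≤ W by
      rintro _ ⟨a, rfl⟩; rw [hL]; exact W.sub_mem (hs'' _ a.1.2) (hs' _ a.2.2))
    obtain ⟨a, ha, ha0⟩ := Submodule.exists_mem_ne_zero_of_ne_bot (p := LinearMap.ker L) fun h => by
      rw [h, finrank_bot] at h1; omega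
    rw [LinearMap.mem_ker, hL, sub_eq_zero] at ha
    have h3 : ρ' * (a.1 : K) = a.2 := by rw [hρ', div_mul_eq_mul_div, ha, mul_div_cancel_left₀ _ hs0]
    refine ⟨a.1, a.1.2, fun h => ha0 (Prod.ext (Subtype.ext h) (Subtype.ext ?_)), h3 ▸ a.2.2⟩
    rw [← h3, h, mul_zero]; rfl
  have hρfix : τ ρ' = ρ' := by
    rw [hρ', map_div₀, show τ (s' : K) = -(s' : K) by linear_combination mem_skew.1 s'.2,
      show τ s = -s by linear_combination hs, neg_div_neg_eq]
  have hsy : s * y ≠ 0 := mul_ne_zero hs0 hy0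
  obtain ⟨U, hU⟩ : ∃ U : Submodule F K, U = W.comap (LinearMap.mulLeft F (s * y)) := ⟨_, rfl⟩
  have hU3 : Module.finrank F U ≤ 3 := hW3 ▸ LinearMap.finrank_le_finrank_of_injective
    (f := ((LinearMap.mulLeft F (s * y)).comp U.subtype).codRestrict W fun x => by
      have h := x.2
      simp only [hU, Submodule.mem_comap] at h
      exact h)
    fun x z h => Subtype.ext (mul_left_cancel₀ hsy (congrArg Subtype.val h))
  have hmU : ∀ k, k ∈ U ↔ s * y * k ∈ W := fun k => by rw [hU]; rfl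
  have hU2 : ρ' ^ 2 ∈ U := (hmU _).2 (by
    rw [show s * y * ρ' ^ 2 = s' * (ρ' * y) by rw [hρ']; field_simp]; exact hs'' _ hyρ)
  refine gainS (s * ρ' ^ 2) ?_ y hy hy0 (by rw [mul_right_comm]; exact (hmU _).1 hU2) ⟨ρ' * y, hyρ, fun h => ?_⟩
  · rw [map_mul, map_pow, hρfix]; linear_combination (ρ' ^ 2) * hs
  · refine pow_three_notMem h5 (ρ := ρ') (by rw [hρ']; exact hind) hU3 ((hmU _).2 (by rw [mul_one]; exact hs' _ hy))
      ((hmU _).2 (by rw [show s * y * ρ' = s * (ρ' * y) by ring]; exact hs' _ hyρ)) hU2 ((hmU _).2 ?_)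
    rwa [show s * y * ρ' ^ 3 = s * ρ' ^ 2 * (ρ' * y) by ring]

/-- An element fixing a line modulo a transvection. -/
theorem exists_phi_of_line {g : GL ι F} (hg : g ∈ M) {u₀ v : ι → F} (hu0 : u₀ ≠ 0) (hu : β u₀ u₀ = 0) (hv0 : v ≠ 0)
    (hv : β v v = 0) (hvZ : v ∈ img g (kLine (K := K) u₀))
    (hd : Module.finrank F ↥(img g (kLine (K := K) u₀) ⊓ kLine (K := K) v) + 1 = Module.finrank F K) :
    ∃ h ∈ M, ∃ v₁ : ι → F, v₁ ≠ 0 ∧ β v₁ v₁ = 0 ∧ ∃ φ : K →ₗ[F] F, φ ≠ 0 ∧ φ 1 = 0 ∧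
      ∀ k : K, (h : Matrix ι ι F) *ᵥ (k • v₁) = k • v₁ + φ k • v₁ := by
  classical
  haveI : Finite (ι → F) := Pi.finite
  haveI : Finite K := Module.finite_of_finite F
  have hr3 : 3 ≤ Module.finrank F K := by omega
  obtain ⟨Z, hZdef⟩ : ∃ Z, Z = img g (kLine (K := K) u₀) := ⟨_, rfl⟩
  rw [← hZdef] at hvZ hd
  obtain ⟨W, hW, hWd⟩ := E.exists_scalars Z hv0
  have hZ : Module.finrank F Z = Module.finrank F K := by rw [hZdef, finrank_img, finrank_kLine hu0]
  obtain ⟨z, hz, hzL⟩ : ∃ z ∈ Z, z ∉ kLine (K := K) v := by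
    by_contra h
    push Not at h
    rw [inf_eq_left.2 (show Z ≤ kLine (K := K) v from h), hZ] at hd
    omega
  -- an element moving `z` along the line
  obtain ⟨t, ht, hl, htv, p, hp, hp0, htz⟩ : ∃ t ∈ M,
      (∀ (k : K) x, (t : Matrix ι ι F) *ᵥ (k • x) = k • ((t : Matrix ι ι F) *ᵥ x)) ∧
      (t : Matrix ι ι F) *ᵥ v = v ∧ ∃ p : K, p ∈ W ∧ p ≠ 0 ∧ (t : Matrix ι ι F) *ᵥ z = z + p • v := by
    by_cases hzv : β z v = 0
    · obtain ⟨u, hu', huv, hzu⟩ := hsep v z hv0 hv hzv hzL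
      obtain ⟨t, ht, -, hl, htv, he⟩ := E.exists_kR_scaled hM hv hu' huv (τ (-(β z u)⁻¹))
      refine ⟨t, ht, hl, htv, 1, (hW 1).2 (by rwa [one_smul]), one_ne_zero, ?_⟩
      rw [he, hzv, zero_smul, add_zero, E.ext.invol, neg_mul, inv_mul_cancel₀ hzu, neg_smul, sub_neg_eq_add]
    · obtain ⟨π, hπ⟩ : ∃ π : skewG τ →+ K ⧸ W, ∀ k, π k = W.mkQ ((k : K) * β z v) :=
        ⟨W.mkQ.toAddMonoidHom.comp ((AddMonoidHom.mulRight (β z v)).comp (skewG τ).subtype), fun k => rfl⟩
      obtain ⟨c, hc, hc0⟩ : ∃ c ∈ π.ker, c ≠ 0 := by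
        by_contra h
        push Not at h
        have hinj : Function.Injective π := (AddMonoidHom.ker_eq_bot_iff π).1
          ((AddSubgroup.eq_bot_iff_forall _).2 h)
        haveI : Finite (K ⧸ W) := Module.finite_of_finite F
        have h1 := Nat.card_le_card_of_injective π hinj
        have h2 : Module.finrank F (K ⧸ W) = 1 := by
          have := Submodule.finrank_quotient_add_finrank W
          omega
        rw [Module.natCard_eq_pow_finrank (K := F) (V := K ⧸ W), h2, pow_one, E.ext.card_skew] at h1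
        have h3 := Nat.pow_le_pow_left h1 2
        rw [E.ext.card_fix, Module.natCard_eq_pow_finrank (K := F) (V := K)] at h3
        exact absurd h3 (not_le.2 (Nat.pow_lt_pow_right Finite.one_lt_card (by omega)))
      rw [AddMonoidHom.mem_ker, hπ, Submodule.mkQ_apply, Submodule.Quotient.mk_eq_zero] at hc
      obtain ⟨t, ht, -, hl, he⟩ := E.exists_kS hM hv (mem_skew.1 c.2)
      exact ⟨t, ht, hl, by rw [he, hv, mul_zero, zero_smul, add_zero], _, hc,
        mul_ne_zero (fun h => hc0 (Subtype.ext h)) hzv, he z⟩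
  have hpZ : p • v ∈ Z := (hW p).1 hp
  have hfix : ∀ x ∈ kLine (K := K) v, (t : Matrix ι ι F) *ᵥ x = x := fun x hx => by
    obtain ⟨k, rfl⟩ := Submodule.mem_span_singleton.1 hx
    rw [hl, htv]
  have hspan : Z = (Z ⊓ kLine (K := K) v) ⊔ Submodule.span F {z} := by
    refine (Submodule.eq_of_le_of_finrank_le (sup_le inf_le_left ((Submodule.span_singleton_le_iff_mem _ _).2 hz))
      ?_).symm
    have h1 : Z ⊓ kLine (K := K) v < Z ⊓ kLine (K := K) v ⊔ Submodule.span F {z} :=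
      left_lt_sup.2 fun h => hzL (h (Submodule.mem_span_singleton_self z)).2
    have := Submodule.finrank_lt_finrank_of_lt h1
    omega
  have ht_act : ∀ x ∈ Z, ∃ c : F, (t : Matrix ι ι F) *ᵥ x = x + c • p • v := fun x hx => by
    rw [hspan] at hx
    obtain ⟨l, hl', y, hy, rfl⟩ := Submodule.mem_sup.1 hx
    obtain ⟨c, rfl⟩ := Submodule.mem_span_singleton.1 hy
    exact ⟨c, by rw [mulVec_add, hfix _ hl'.2, mulVec_smul, htz, smul_add, add_assoc]⟩
  obtain ⟨v₁, hv₁⟩ : ∃ v₁, v₁ = ((g⁻¹ : GL ι F) : Matrix ι ι F) *ᵥ (p • v) := ⟨_, rfl⟩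
  have hgv₁ : (g : Matrix ι ι F) *ᵥ v₁ = p • v := by rw [hv₁, mulVec_inv_cancel]
  have hv₁0 : v₁ ≠ 0 := fun h => smul_ne_zero hp0 hv0 (by rw [← hgv₁, h, mulVec_zero])
  obtain ⟨κ, hκ⟩ : ∃ κ : K, κ • u₀ = v₁ := by
    obtain ⟨x, hx, hgx⟩ := (hZdef ▸ hpZ : p • v ∈ img g _)
    obtain ⟨κ, rfl⟩ := Submodule.mem_span_singleton.1 hx
    exact ⟨κ, mulVec_injective g (by simp only; rw [hgv₁, ← hgx, Matrix.toLin'_apply])⟩
  have hin : ∀ k : K, (g : Matrix ι ι F) *ᵥ (k • v₁) ∈ Z := fun k => by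
    rw [hZdef, ← hκ, smul_smul]
    exact ⟨(k * κ) • u₀, Submodule.smul_mem _ _ (Submodule.mem_span_singleton_self u₀), Matrix.toLin'_apply _ _⟩
  choose c hc using fun k => ht_act _ (hin k)
  have hact : ∀ k, ((g⁻¹ * t * g : GL ι F) : Matrix ι ι F) *ᵥ (k • v₁) = k • v₁ + c k • v₁ := fun k => by
    rw [mul_mulVec, mul_mulVec, hc, mulVec_add, inv_mulVec_cancel, mulVec_smul, ← hv₁]
  have huniq : ∀ a b : F, a • v₁ = b • v₁ → a = b := fun a b h => smul_left_injective F hv₁0 h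
  obtain ⟨φ, hφ⟩ : ∃ φ : K →ₗ[F] F, ∀ k, φ k = c k :=
    ⟨{ toFun := c
       map_add' := fun a b => huniq _ _ (add_left_cancel (a := (a + b) • v₁) (by
         rw [← hact, add_smul a b v₁, mulVec_add, hact, hact, add_smul (c a)]; abel))
       map_smul' := fun d a => huniq _ _ (add_left_cancel (a := (d • a) • v₁) (by
         rw [← hact, smul_assoc, mulVec_smul, hact, smul_add, RingHom.id_apply, smul_eq_mul, smul_smul])) },
      fun _ => rfl⟩
  refine ⟨_, M.mul_mem (M.mul_mem (M.inv_mem hg) ht) hg, v₁, hv₁0,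
    by rw [← hκ, E.herm.smul_left, E.herm.smul_right, hu, mul_zero, mul_zero], φ, fun h => ?_, ?_,
    fun k => by rw [hφ]; exact hact k⟩
  · obtain ⟨x, hx, hgx⟩ := (hZdef ▸ hz : z ∈ img g _)
    obtain ⟨m, rfl⟩ := Submodule.mem_span_singleton.1 hx
    have hκ0 : κ ≠ 0 := fun h0 => hv₁0 (by rw [← hκ, h0, zero_smul])
    rw [Matrix.toLin'_apply, show m • u₀ = (m / κ) • v₁ by rw [← hκ, smul_smul, div_mul_cancel₀ _ hκ0]] at hgx
    have h1 := hc (m / κ)
    rw [← hφ, h, LinearMap.zero_apply, zero_smul, add_zero, hgx, htz] at h1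
    exact smul_ne_zero hp0 hv0 (add_eq_left.1 h1)
  · rw [hφ]
    have h1 := hc 1
    rw [one_smul, hgv₁, hfix _ (Submodule.smul_mem _ p (Submodule.mem_span_singleton_self v))] at h1
    exact (smul_eq_zero.1 (add_eq_left.1 h1.symm)).resolve_right (smul_ne_zero hp0 hv0)

/-- The descent. -/
theorem exists_phi_of_pair (hiso : ∀ g ∈ M, Iso f g) (j : ℕ) : ∀ {g : GL ι F}, g ∈ M → ∀ {u₀ v : ι → F}, u₀ ≠ 0 →
    β u₀ u₀ = 0 → v ≠ 0 → β v v = 0 → v ∈ img g (kLine (K := K) u₀) →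
    Module.finrank F K ≤ j + Module.finrank F ↥(img g (kLine (K := K) u₀) ⊓ kLine (K := K) v) →
    Module.finrank F ↥(img g (kLine (K := K) u₀) ⊓ kLine (K := K) v) < Module.finrank F K →
    ∃ h ∈ M, ∃ v₁ : ι → F, v₁ ≠ 0 ∧ β v₁ v₁ = 0 ∧ ∃ φ : K →ₗ[F] F, φ ≠ 0 ∧ φ 1 = 0 ∧
      ∀ k : K, (h : Matrix ι ι F) *ᵥ (k • v₁) = k • v₁ + φ k • v₁ := by
  induction j with
  | zero => intro g _ u₀ v _ _ _ _ _ h1 h2; omega
  | succ j ih =>
    intro g hg u₀ v hu0 hu hv0 hv hvZ h1 h2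
    by_cases hd : Module.finrank F ↥(img g (kLine (K := K) u₀) ⊓ kLine (K := K) v) + 1 = Module.finrank F K
    · exact E.exists_phi_of_line hM hr hsep hg hu0 hu hv0 hv hvZ hd
    obtain ⟨Z, hZdef⟩ : ∃ Z, Z = img g (kLine (K := K) u₀) := ⟨_, rfl⟩
    have hZ : Module.finrank F Z = Module.finrank F K := by rw [hZdef, finrank_img, finrank_kLine hu0]
    have hZiso : ∀ x ∈ Z, ∀ y ∈ Z, f x y = 0 := by
      rw [hZdef]
      rintro _ ⟨x, hx, rfl⟩ _ ⟨y, hy, rfl⟩
      obtain ⟨a, rfl⟩ := Submodule.mem_span_singleton.1 hx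
      obtain ⟨b, rfl⟩ := Submodule.mem_span_singleton.1 hy
      rw [Matrix.toLin'_apply, Matrix.toLin'_apply, hiso g hg, E.form, E.herm.smul_left, E.herm.smul_right, hu,
        mul_zero, mul_zero, map_zero]
    rw [← hZdef] at hvZ h1 h2 hd
    obtain ⟨t, ht, hlow, hhigh⟩ := E.exists_gain hM hr hsep hZ hZiso hv0 hv hvZ (by omega)
    have hgi : ∀ x, ((g⁻¹ : GL ι F) : Matrix ι ι F) *ᵥ x ∈ kLine (K := K) u₀ ↔ x ∈ Z := fun x => by
      rw [hZdef]
      exact ⟨fun h => ⟨_, h, by rw [Matrix.toLin'_apply, mulVec_inv_cancel]⟩, fun ⟨y, hy, e⟩ => by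
        rw [← e, Matrix.toLin'_apply, inv_mulVec_cancel]; exact hy⟩
    obtain ⟨g', hg'⟩ : ∃ g', g' = g⁻¹ * t * g := ⟨_, rfl⟩
    have hinter : img g' (kLine (K := K) u₀) ⊓ kLine (K := K) u₀ = img g⁻¹ (Z ⊓ img t Z) := by
      ext x
      constructor
      · rintro ⟨⟨y, hy, rfl⟩, hx⟩
        refine ⟨(g : Matrix ι ι F) *ᵥ Matrix.toLin' (g' : Matrix ι ι F) y, ⟨?_, ?_⟩, ?_⟩
        · exact (hgi _).1 (by rw [inv_mulVec_cancel]; exact hx)
        · refine ⟨(g : Matrix ι ι F) *ᵥ y, hZdef ▸ ⟨y, hy, Matrix.toLin'_apply _ _⟩, ?_⟩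
          rw [Matrix.toLin'_apply, Matrix.toLin'_apply, hg', mul_mulVec, mul_mulVec, mulVec_inv_cancel]
        · rw [Matrix.toLin'_apply, inv_mulVec_cancel]
      · rintro ⟨z, ⟨hz, y, hy, hty⟩, rfl⟩
        refine ⟨⟨((g⁻¹ : GL ι F) : Matrix ι ι F) *ᵥ y, (hgi y).2 hy, ?_⟩, by
          rw [Matrix.toLin'_apply]; exact (hgi z).2 hz⟩
        rw [Matrix.toLin'_apply, Matrix.toLin'_apply, hg', mul_mulVec, mul_mulVec, mulVec_inv_cancel, ← hty,
          Matrix.toLin'_apply]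
    obtain ⟨v', hv', hv'0⟩ := Submodule.exists_mem_ne_zero_of_ne_bot
      (p := img g' (kLine (K := K) u₀) ⊓ kLine (K := K) u₀) fun h => by
        have := finrank_img g⁻¹ (Z ⊓ img t Z)
        rw [← hinter, h, finrank_bot] at this
        omega
    obtain ⟨κ, hκ⟩ := Submodule.mem_span_singleton.1 hv'.2
    have hκ0 : κ ≠ 0 := fun h => hv'0 (by rw [← hκ, h, zero_smul])
    have hkl : kLine (K := K) v' = kLine (K := K) u₀ := by
      rw [← hκ, kLine, kLine, Submodule.span_singleton_smul_eq (Ne.isUnit hκ0)]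
    refine ih (hg' ▸ M.mul_mem (M.mul_mem (M.inv_mem hg) ht) hg) hu0 hu hv'0
      (by rw [← hκ, E.herm.smul_left, E.herm.smul_right, hu, mul_zero, mul_zero]) hv'.1 ?_ ?_ <;>
      rw [hkl, hinter, finrank_img] <;> omega

end Over

end CfsgLib.Classical22.UField
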