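/-
A hermitian space over an extension field: from a transvection on a line to a unitary transvection of the space.
-/
import Cfsg.Agent.Lib.Classical22.UField.Gain

set_option autoImplicit false
set_option linter.all false

namespace CfsgLib.Classical22.UField

open Matrix CfsgLib.Transvec CfsgLib.Transvec.Unitary
open CfsgLib.Classical22.FieldMax (kLine finrank_kLine Semi)
open scoped MatrixGroups

variable {ι : Type} [Fintype ι] [DecidableEq ι] {F : Type*} [Field F] [Fintype F]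
variable {K : Type*} [Field K] [Algebra F K] [Module K (ι → F)] [IsScalarTower F K (ι → F)]
variable [FiniteDimensional F K]
variable {σ : F ≃+* F} {τ : K ≃+* K} {f : (ι → F) → (ι → F) → F} {β : (ι → F) → (ι → F) → K}
variable {M : Subgroup (GL ι F)}

/-- In a field with an involution, a fixed element is a difference of squares of fixed elements. -/
theorem exists_fix_sq_sub_sq (hne : σ ≠ RingEquiv.refl F) (c : F) (hc : σ c = c) :
    ∃ a b : F, σ a = a ∧ σ b = b ∧ c = a ^ 2 - b ^ 2 := by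
  by_cases h2 : (2 : F) = 0
  · obtain ⟨a, ha⟩ : ∃ a : F, a ^ 2 = c := by
      refine (Finite.injective_iff_surjective.1 (fun x y (h : x ^ 2 = y ^ 2) => ?_)) c
      have h' : (x - y) ^ 2 = 0 := by linear_combination h + (y ^ 2 - x * y) * h2
      exact sub_eq_zero.1 ((sq_eq_zero_iff).1 h')
    refine ⟨a, 0, ?_, map_zero σ, by rw [ha]; ring⟩
    have h' : (σ a - a) ^ 2 = 0 := by
      have h3 : σ (a ^ 2) = a ^ 2 := by rw [ha, hc]
      rw [map_pow] at h3
      linear_combination h3 + (a ^ 2 - σ a * a) * h2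
    exact sub_eq_zero.1 ((sq_eq_zero_iff).1 h')
  · refine ⟨(c + 1) / 2, (c - 1) / 2, ?_, ?_, ?_⟩
    · rw [map_div₀, map_add, hc, map_one, map_ofNat]
    · rw [map_div₀, map_sub, hc, map_one, map_ofNat]
    · field_simp
      ring

namespace Over

variable (E : Over σ τ f β)
include E

omit [Fintype F] in
lemma finite_K [Fintype F] : Finite K := Module.finite_of_finite F

/-- A partner of an isotropic vector. -/
lemma exists_partner {v : ι → F} (hv0 : v ≠ 0) (hv : β v v = 0) :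
    ∃ z, β z z = 0 ∧ β z v = 1 ∧ β v z = 1 := by
  haveI : Finite K := E.finite_K
  haveI := FieldMax.finiteK (ι := ι) (F := F) (K := K)
  obtain ⟨r, -, hr⟩ := E.herm.exists_sep (P := (⊥ : Submodule K (ι → F))) (u := v) (by simpa using hv0)
  obtain ⟨z, -, h1, h2, h3⟩ := E.herm.exists_partner (S := ⊤) (r := r) Submodule.mem_top Submodule.mem_top hv
    (by rw [hr]; exact one_ne_zero)
  exact ⟨z, h1, h2, h3⟩

variable (hM : LinIn β M)
include hM

/-- A transvection moving an isotropic vector to another. -/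
lemma exists_move_skew {a b : ι → F} (ha : β a a = 0) (hb : β b b = 0) (hab : β a b ≠ 0)
    (hs : β a b + τ (β a b) = 0) :
    ∃ T ∈ M, (∀ x y, β ((T : Matrix ι ι F) *ᵥ x) ((T : Matrix ι ι F) *ᵥ y) = β x y) ∧
      (∀ (k : K) x, (T : Matrix ι ι F) *ᵥ (k • x) = k • ((T : Matrix ι ι F) *ᵥ x)) ∧
      (T : Matrix ι ι F) *ᵥ a = b := by
  have hd : β (b - a) (b - a) = 0 := by
    simp only [E.herm.sub_left, E.herm.sub_right, ha, hb]
    rw [E.herm.herm b a]
    linear_combination -hs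
  obtain ⟨T, hT, hb', hl, he⟩ := E.exists_kS hM hd (c := (β a b)⁻¹) (by
    rw [map_inv₀, show τ (β a b) = -β a b by linear_combination hs, inv_neg, add_neg_cancel])
  refine ⟨T, hT, hb', hl, ?_⟩
  rw [he, E.herm.sub_right, ha, sub_zero, inv_mul_cancel₀ hab, one_smul, add_sub_cancel]

/-- Multiplying an isotropic vector by a fixed element. -/
lemma exists_move_fix {v : ι → F} (hv0 : v ≠ 0) (hv : β v v = 0) {ρ : K} (hρ : τ ρ = ρ) (hρ0 : ρ ≠ 0) :
    ∃ T ∈ M, (∀ x y, β ((T : Matrix ι ι F) *ᵥ x) ((T : Matrix ι ι F) *ᵥ y) = β x y) ∧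
      (∀ (k : K) x, (T : Matrix ι ι F) *ᵥ (k • x) = k • ((T : Matrix ι ι F) *ᵥ x)) ∧
      (T : Matrix ι ι F) *ᵥ v = ρ • v := by
  obtain ⟨z, hz, hzv, hvz⟩ := E.exists_partner hv0 hv
  obtain ⟨ζ, hζ0, hζ⟩ := E.ext.exists_skew_scalar
  obtain ⟨κ, hκ⟩ : ∃ κ : K, κ = algebraMap F K ζ := ⟨_, rfl⟩
  have hκ0 : κ ≠ 0 := hκ ▸ (map_ne_zero_iff _ (algebraMap F K).injective).2 hζ0
  have hκs : κ + τ κ = 0 := by rw [hκ, E.ext.alg, ← map_add, hζ, map_zero]
  have hz' : β (κ • z) (κ • z) = 0 := by rw [E.herm.smul_left, E.herm.smul_right, hz, mul_zero, mul_zero]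
  obtain ⟨T, hT, hb, hl, he⟩ := E.exists_move_skew hM (a := v) (b := κ • z) hv hz'
    (by rw [E.herm.smul_right, hvz, mul_one]; exact (map_ne_zero_iff _ τ.injective).2 hκ0)
    (by rw [E.herm.smul_right, hvz, mul_one, E.ext.invol]; linear_combination hκs)
  obtain ⟨T', hT', hb', hl', he'⟩ := E.exists_move_skew hM (a := κ • z) (b := ρ • v) hz'
    (by rw [E.herm.smul_left, E.herm.smul_right, hv, mul_zero, mul_zero])
    (by rw [E.herm.smul_left, E.herm.smul_right, hzv, hρ, mul_one]; exact mul_ne_zero hκ0 hρ0)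
    (by rw [E.herm.smul_left, E.herm.smul_right, hzv, hρ, mul_one, map_mul, hρ]; linear_combination ρ * hκs)
  exact ⟨T' * T, M.mul_mem hT' hT, fun x y => by simp only [mul_mulVec, hb', hb],
    fun k x => by simp only [mul_mulVec, hl, hl'], by rw [mul_mulVec, he, he']⟩

/-- Invariance under scaling the line by a fixed element. -/
lemma uni_scale {v : ι → F} (hv0 : v ≠ 0) (hv : β v v = 0) {X : K → K} (hX : Uni β M v X) {ρ : K} (hρ : τ ρ = ρ)
    (hρ0 : ρ ≠ 0) : Uni β M v (fun k => ρ * X (ρ * k)) := by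
  obtain ⟨T, hT, hb, hl, he⟩ := E.exists_move_fix hM hv0 hv hρ hρ0
  obtain ⟨h, hh, hhe⟩ := hX
  refine ⟨T * h * T⁻¹, M.mul_mem (M.mul_mem hT hh) (M.inv_mem hT), fun x => ?_⟩
  have h1 : β (((T⁻¹ : GL ι F) : Matrix ι ι F) *ᵥ x) v = ρ * β x v := by
    rw [← hb, mulVec_inv_cancel, he, E.herm.smul_right, hρ]
  rw [mul_mulVec, mul_mulVec, hhe, mulVec_add, mulVec_inv_cancel, hl, he, h1, smul_smul]
  congr 2; ring

/-- A transvection of the space from a transvection on a line. -/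
theorem exists_uT (hiso : ∀ g ∈ M, Iso f g) (hr : Module.finrank F K = 3 ∨ Module.finrank F K = 5) {h : GL ι F}
    (hh : h ∈ M) {v : ι → F} (hv0 : v ≠ 0) (hv : β v v = 0) {φ : K →ₗ[F] F} (hφ0 : φ ≠ 0) (hφ1 : φ 1 = 0)
    (hact : ∀ k : K, (h : Matrix ι ι F) *ᵥ (k • v) = k • v + φ k • v) :
    ∃ (w : ι → F) (μ : F), w ≠ 0 ∧ β w w = 0 ∧ μ ≠ 0 ∧ μ + σ μ = 0 ∧ uT f w μ ∈ M := by
  classical
  haveI : Finite K := E.finite_K
  have hrp : (Module.finrank F K).Prime := by rcases hr with h | h <;> rw [h] <;> norm_num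
  have hr2 : Module.finrank F K ≠ 2 := by omega
  have hnd := traceForm_nondegenerate F K
  obtain ⟨p, hp⟩ : ∃ p : K, ∀ k, Algebra.trace F K (τ p * k) = φ k := by
    obtain ⟨p, hp⟩ := ((Algebra.traceForm F K).toDual hnd).surjective φ
    exact ⟨τ p, fun k => by
      rw [E.ext.invol, ← Algebra.traceForm_apply, ← LinearMap.BilinForm.toDual_def (b := hnd), hp]⟩
  have hp0 : p ≠ 0 := fun e => hφ0 (LinearMap.ext fun k => by rw [← hp, e, map_zero, zero_mul, map_zero]; rfl)
  obtain ⟨ε, hε⟩ : ∃ ε : K → F, ∀ c, ε c = Algebra.trace F K (τ p * (c * p)) := ⟨_, fun c => rfl⟩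
  obtain ⟨D, hD⟩ : ∃ D : K → K → K, ∀ c t, D c t = Algebra.trace F K t • (c * p) +
      algebraMap F K (Algebra.trace F K (τ p * (c * t)) + Algebra.trace F K t * ε c) := ⟨_, fun c t => rfl⟩
  have hconj : ∀ x, β (((h⁻¹ : GL ι F) : Matrix ι ι F) *ᵥ x) v = β x v + Algebra.trace F K (β x v) • p := by
    intro x
    refine sub_eq_zero.1 (hnd.1 _ fun k => ?_)
    have h1 := hiso h hh (((h⁻¹ : GL ι F) : Matrix ι ι F) *ᵥ x) (τ k • v)
    rw [mulVec_inv_cancel, hact, add_right' E.uni, smul_right' E.uni, E.form, E.form, E.form, E.herm.smul_right,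
      E.herm.smul_right, E.ext.invol] at h1
    have h2 : Algebra.trace F K (k * p) = σ (φ (τ k)) := by
      rw [← hp, ← map_mul τ p k, E.ext.trace_tau, E.ext.invol₀, mul_comm]
    rw [Algebra.traceForm_apply, sub_mul, map_sub, add_mul, map_add, smul_mul_assoc, map_smul, smul_eq_mul,
      mul_comm p k, h2, mul_comm (β x v) k, mul_comm (β _ v) k]
    linear_combination -h1
  have hUD : ∀ c, c + τ c = 0 → Uni β M v (D c) := by
    intro c hc
    obtain ⟨s, hs, -, -, hse⟩ := E.exists_kS hM hv hc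
    have h1 : Uni β M v (fun t => c * t + D c t) := by
      refine ⟨h * s * h⁻¹, M.mul_mem (M.mul_mem hh hs) (M.inv_mem hh), fun x => ?_⟩
      rw [mul_mulVec, mul_mulVec, hse, hconj, mulVec_add, mulVec_inv_cancel, hact, ← algebraMap_smul K (φ _) v,
        ← add_smul]
      congr 2
      simp only
      rw [hD, ← hp, mul_add, mul_smul_comm, map_add, hε, mul_add (τ p), mul_smul_comm, map_add, map_smul,
        smul_eq_mul]
      simp only [map_add, map_mul, Algebra.smul_def]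
      ring
    simpa only [add_sub_cancel_left] using E.uni_sub hv h1 (E.uni_lmul hM hv hc)
  -- a skew element without correction term
  obtain ⟨c, hc, hc0, hεc⟩ : ∃ c, c + τ c = 0 ∧ c ≠ 0 ∧ ε c = 0 := by
    obtain ⟨π, hπ⟩ : ∃ π : skewG τ →+ F, ∀ k, π k = ε k :=
      ⟨AddMonoidHom.mk' (fun k => ε k) fun a b => by simp [hε, add_mul, mul_add], fun k => rfl⟩
    by_contra hno
    push Not at hno
    have hinj : Function.Injective π := (injective_iff_map_eq_zero π).2 fun k hk => by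
      by_contra hk0
      exact hno k (mem_skew.1 k.2) (fun e => hk0 (Subtype.ext e)) (hπ k ▸ hk)
    have h1 := Nat.pow_le_pow_left (Nat.card_le_card_of_injective π hinj) 2
    rw [E.ext.card_skew, E.ext.card_fix, Module.natCard_eq_pow_finrank (K := F) (V := K)] at h1
    exact absurd h1 (not_le.2 (Nat.pow_lt_pow_right Finite.one_lt_card (by omega)))
  obtain ⟨φ₂, hφ₂⟩ : ∃ φ₂ : K →ₗ[F] F, ∀ ρ, φ₂ ρ = ε (ρ * c) :=
    ⟨(Algebra.trace F K).comp (LinearMap.mulLeft F (τ p * (c * p))), fun ρ => by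
      rw [hε, LinearMap.comp_apply, LinearMap.mulLeft_apply]; congr 1; ring⟩
  have hskew : ∀ x, τ x = x → (τ p * (x * c * p)) + τ (τ p * (x * c * p)) = 0 := fun x hx => by
    simp only [map_mul, E.ext.invol, hx]; linear_combination (p * τ p * x) * hc
  have hφ₂0 : φ₂ ≠ 0 := fun e => by
    have hne : τ p * (c * p) ≠ 0 := mul_ne_zero ((map_ne_zero_iff _ τ.injective).2 hp0) (mul_ne_zero hc0 hp0)
    refine hne (hnd.1 _ fun k => ?_)
    have := LinearMap.congr_fun e k
    rw [hφ₂, hε, LinearMap.zero_apply] at this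
    rw [Algebra.traceForm_apply, show τ p * (c * p) * k = τ p * (k * c * p) by ring, this]
  obtain ⟨ρ, hρ, hρ0, hone⟩ := E.ext.exists_one_zero hrp hr2 φ₂ hφ₂0 (fun x hx => by
    rw [hφ₂, hε]; exact E.ext.trace_skew (hskew x hx)) (by rw [hφ₂, one_mul, hεc])
  have hρ1 : 1 + ρ ≠ 0 := fun e => hone (by
    rw [show ρ = -1 by linear_combination e, inv_neg, inv_one])
  have hρ' : τ ρ⁻¹ = ρ⁻¹ := by rw [map_inv₀, hρ]
  have hcρ : ρ * c + τ (ρ * c) = 0 := by rw [map_mul, hρ]; linear_combination ρ * hc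
  have hcρ' : ρ⁻¹ * c + τ (ρ⁻¹ * c) = 0 := by rw [map_mul, hρ']; linear_combination ρ⁻¹ * hc
  have hsum := E.uni_sub hv
    (E.uni_sub hv
      (E.uni_sub hv
        (E.uni_sub hv (E.uni_scale hM hv0 hv (hUD c hc) (ρ := 1 + ρ) (by rw [map_add, map_one, hρ]) hρ1) (hUD c hc))
        (E.uni_scale hM hv0 hv (hUD c hc) hρ hρ0))
      (hUD _ hcρ))
    (E.uni_scale hM hv0 hv (hUD _ hcρ') hρ hρ0)
  obtain ⟨u, hu, hue⟩ := hsum
  have hX : ∀ t, (1 + ρ) * D c ((1 + ρ) * t) - D c t - ρ * D c (ρ * t) - D (ρ * c) t - ρ * D (ρ⁻¹ * c) (ρ * t) =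
      -(algebraMap F K (φ₂ ρ * Algebra.trace F K t)) -
        algebraMap F K (φ₂ ρ⁻¹ * Algebra.trace F K (ρ * t)) * ρ := by
    intro t
    simp only [hD, hφ₂, hεc, Algebra.smul_def, mul_zero, add_zero, map_add, map_mul]
    rw [show ρ⁻¹ * c * (ρ * t) = c * t by field_simp, show ρ * c * t = c * (ρ * t) by ring,
      show (1 + ρ) * t = t + ρ * t by ring, mul_add c, mul_add (τ p)]
    simp only [map_add]
    field_simp
    ring
  have hmu : ∀ x, τ x = x → φ₂ x + σ (φ₂ x) = 0 := fun x hx => by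
    rw [hφ₂, hε]; exact E.ext.trace_skew (hskew x hx)
  by_cases h0 : φ₂ ρ = 0
  · refine ⟨ρ • v, -φ₂ ρ⁻¹, smul_ne_zero hρ0 hv0, by
      rw [E.herm.smul_left, E.herm.smul_right, hv, mul_zero, mul_zero],
      neg_ne_zero.2 fun h1 => hone (iff_of_true h0 h1),
      by rw [map_neg]; linear_combination -hmu _ hρ', ?_⟩
    have hiso' : f (ρ • v) (ρ • v) = 0 := by
      rw [E.form, E.herm.smul_left, E.herm.smul_right, hv, mul_zero, mul_zero, map_zero]
    rwa [show uT f (ρ • v) (-φ₂ ρ⁻¹) = u from gl_ext fun x => by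
      rw [uT_mulVec E.uni hiso', hue]
      simp only
      rw [hX, h0, E.form, E.herm.smul_right, hρ, ← algebraMap_smul K, smul_smul]
      simp [mul_comm]]
  · refine ⟨v, -φ₂ ρ, hv0, hv, neg_ne_zero.2 h0, by rw [map_neg]; linear_combination -hmu _ hρ, ?_⟩
    have h1 : φ₂ ρ⁻¹ = 0 := by_contra fun h1 => hone (iff_of_false h0 h1)
    rwa [show uT f v (-φ₂ ρ) = u from gl_ext fun x => by
      rw [uT_mulVec E.uni (by rw [E.form, hv, map_zero]), hue]
      simp only
      rw [hX, h1, E.form, ← algebraMap_smul K]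
      simp]

/-- All transvections at a fixed multiple. -/
theorem ufull_of_uT {w : ι → F} {μ : F} (hw0 : w ≠ 0) (hw : β w w = 0) (hμ0 : μ ≠ 0) (hμ : μ + σ μ = 0)
    (hm : uT f w μ ∈ M) : UFull σ f M w := by
  have hfw : f w w = 0 := by rw [E.form, hw, map_zero]
  refine ⟨hfw, fun d hd => ?_⟩
  obtain ⟨a, b, ha, hb, hab⟩ := exists_fix_sq_sub_sq E.uni.ne_refl (d / μ) (by
    rw [map_div₀, show σ d = -d by linear_combination hd, show σ μ = -μ by linear_combination hμ, neg_div_neg_eq])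
  have hsq : ∀ a : F, σ a = a → uT f w (a ^ 2 * μ) ∈ M := by
    intro a ha
    by_cases ha0 : a = 0
    · rw [ha0, show uT f w ((0 : F) ^ 2 * μ) = 1 from gl_ext fun x => by
        rw [uT_mulVec E.uni hfw]; simp]
      exact M.one_mem
    obtain ⟨T, hT, hb, -, he⟩ := E.exists_move_fix hM hw0 hw (ρ := algebraMap F K a)
      (by rw [E.ext.alg, ha]) ((map_ne_zero_iff _ (algebraMap F K).injective).2 ha0)
    have h1 := M.mul_mem (M.mul_mem hT hm) (M.inv_mem hT)
    rw [conj_uT E.uni (E.iso_of_beta hb) hfw, he] at h1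
    have hi : f (algebraMap F K a • w) (algebraMap F K a • w) = 0 := by
      rw [algebraMap_smul, E.uni.smul_left, smul_right' E.uni, hfw, mul_zero, mul_zero]
    rwa [show uT f w (a ^ 2 * μ) = uT f (algebraMap F K a • w) μ from gl_ext fun x => by
      rw [uT_mulVec E.uni hfw, uT_mulVec E.uni hi, algebraMap_smul, smul_right' E.uni, ha, smul_smul]
      congr 2; ring]
  have := M.mul_mem (hsq a ha) (M.inv_mem (hsq b hb))
  rwa [show uT f w d = uT f w (a ^ 2 * μ) * (uT f w (b ^ 2 * μ))⁻¹ from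
    eq_mul_inv_of_mul_eq (gl_ext fun x => by
      rw [mul_mulVec, uT_mulVec E.uni hfw, uT_mulVec E.uni hfw, uT_mulVec E.uni hfw, E.uni.add_left,
        E.uni.smul_left, hfw, mul_zero, add_zero, add_assoc, ← add_smul]
      congr 2
      rw [div_eq_iff hμ0] at hab
      rw [hab]; ring)]

end Over

end CfsgLib.Classical22.UField
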