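/-
A hermitian space over an extension field: maps sending isotropic lines to lines, and the first pair.
-/
import Cfsg.Agent.Lib.Classical22.UField.RankOne

set_option autoImplicit false
set_option linter.all false

namespace CfsgLib.Classical22.UField

open Matrix CfsgLib.Transvec CfsgLib.Transvec.Unitary
open CfsgLib.Classical22.FieldMax (kLine finrank_kLine Semi)
open scoped MatrixGroups

variable {ι : Type} [Fintype ι] [DecidableEq ι] {F : Type*} [Field F] [Fintype F]
variable {K : Type*} [Field K] [Algebra F K] [Module K (ι → F)] [IsScalarTower F K (ι → F)]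
variable [FiniteDimensional F K]
variable {σ : F ≃+* F} {τ : K ≃+* K} {f : (ι → F) → (ι → F) → F} {β : (ι → F) → (ι → F) → K}
variable {M : Subgroup (GL ι F)}

namespace Over

variable (E : Over σ τ f β)
include E

/-- Separation by isotropic vectors. -/
theorem exists_sep_iso (hdim : Module.finrank K (ι → F) = 2 ∨ 4 ≤ Module.finrank K (ι → F)) (v z : ι → F)
    (hv0 : v ≠ 0) (hv : β v v = 0) (hzv : β z v = 0) (hz : z ∉ kLine (K := K) v) :
    ∃ u, β u u = 0 ∧ β u v = 0 ∧ β z u ≠ 0 := by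
  haveI : Finite K := E.finite_K
  haveI := FieldMax.finiteK (ι := ι) (F := F) (K := K)
  have hz' : z ∉ Submodule.span K {v} := hz
  rcases hdim with h2 | h4
  · refine absurd ?_ hz'
    obtain ⟨w, -, hwv, -⟩ := E.exists_partner hv0 hv
    have hperp : E.herm.perp (Submodule.span K {v}) = Submodule.span K {v} := by
      refine (Submodule.eq_of_le_of_finrank_le ((Submodule.span_singleton_le_iff_mem _ _).2 fun p hp => ?_) ?_).symm
      · obtain ⟨c, rfl⟩ := Submodule.mem_span_singleton.1 hp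
        rw [E.herm.smul_right, hv, mul_zero]
      · rw [finrank_span_singleton hv0]
        have hlt : E.herm.perp (Submodule.span K {v}) < ⊤ := lt_top_iff_ne_top.2 fun h => by
          have := (h ▸ Submodule.mem_top : w ∈ E.herm.perp (Submodule.span K {v})) v (Submodule.mem_span_singleton_self v)
          rw [hwv] at this
          exact one_ne_zero this
        have := Submodule.finrank_lt_finrank_of_lt hlt
        rw [finrank_top, h2] at this
        omega
    rw [← hperp]
    intro p hp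
    obtain ⟨c, rfl⟩ := Submodule.mem_span_singleton.1 hp
    rw [E.herm.smul_right, hzv, mul_zero]
  · obtain ⟨S, hS⟩ : ∃ S, S = E.herm.perp (Submodule.span K {v}) := ⟨_, rfl⟩
    have hSv : ∀ {x}, x ∈ S ↔ β x v = 0 := fun {x} => by
      rw [hS]
      refine ⟨fun h => h v (Submodule.mem_span_singleton_self v), fun h p hp => ?_⟩
      obtain ⟨c, rfl⟩ := Submodule.mem_span_singleton.1 hp
      rw [E.herm.smul_right, h, mul_zero]
    obtain ⟨u, -, hu, huP, hu'⟩ := E.herm.exists_iso_notMem (P := Submodule.span K {v}) (P' := Submodule.span K {v})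
      (by rw [finrank_span_singleton hv0]; omega)
    obtain ⟨r, hr, hru⟩ := E.herm.exists_sep (P := Submodule.span K {v}) hu'
    have huS : u ∈ S := hS ▸ huP
    have hrS : r ∈ S := hS ▸ hr
    obtain ⟨w, hwS, hw, hwu, -⟩ := E.herm.exists_partner huS hrS hu (by rw [hru]; exact one_ne_zero)
    obtain ⟨r', hr', hr'z⟩ := E.herm.exists_sep hz'
    by_contra hno
    push Not at hno
    have hall : ∀ x ∈ S, β z x = 0 := fun x hx => by
      refine Submodule.span_induction (p := fun x _ => β z x = 0) (fun s hs => ?_) (E.herm.zero_right z)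
        (fun a b _ _ ha hb => by rw [E.herm.add_right, ha, hb, add_zero])
        (fun c a _ ha => by rw [E.herm.smul_right, ha, mul_zero])
        (E.herm.mem_span_paired huS hwS hu hw hwu hx)
      exact hno s hs.2 (hSv.1 hs.1)
    have := hall r' (hS ▸ hr')
    rw [E.herm.zero_comm, hr'z] at this
    exact one_ne_zero this

variable (hM : LinIn β M)

/-- An element mapping isotropic lines to lines is semilinear. -/
theorem semi_of_iso_lines {g : GL ι F}
    (hg : ∀ u, u ≠ 0 → β u u = 0 → ∀ k : K, ∃ k' : K,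
      (g : Matrix ι ι F) *ᵥ (k • u) = k' • ((g : Matrix ι ι F) *ᵥ u))
    (hne : ∃ v : ι → F, v ≠ 0 ∧ β v v = 0) : Semi K g := by
  classical
  haveI : Finite K := E.finite_K
  haveI := FieldMax.finiteK (ι := ι) (F := F) (K := K)
  choose s hs using hg
  have hgne : ∀ {x : ι → F}, x ≠ 0 → (g : Matrix ι ι F) *ᵥ x ≠ 0 := fun hx => mulVec_ne_zero g hx
  have hone : ∀ u hu0 hu, s u hu0 hu 1 = 1 := fun u hu0 hu => by
    refine smul_left_injective K (hgne hu0) ?_
    simp only
    rw [one_smul, ← hs u hu0 hu, one_smul]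
  -- a hyperbolic pair
  have pair : ∀ (x y : ι → F) hx0 hy0 hx hy, β x y = 1 →
      (∀ k, s x hx0 hx k = s y hy0 hy k) ∧ ∀ k l, s x hx0 hx (k * l) = s x hx0 hx k * s x hx0 hx l := by
    intro x y hx0 hy0 hx hy hxy
    have hyx : β y x = 1 := by rw [E.herm.herm, hxy, map_one]
    have hind : ∀ a b : K, a • ((g : Matrix ι ι F) *ᵥ x) + b • ((g : Matrix ι ι F) *ᵥ y) = 0 → a = 0 ∧ b = 0 := by
      intro a b h
      by_cases hb : b = 0
      · rw [hb, zero_smul, add_zero, smul_eq_zero] at h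
        exact ⟨h.resolve_right (hgne hx0), hb⟩
      exfalso
      have h1 : (g : Matrix ι ι F) *ᵥ y = (-b⁻¹ * a) • ((g : Matrix ι ι F) *ᵥ x) := by
        rw [← inv_smul_smul₀ hb ((g : Matrix ι ι F) *ᵥ y), eq_neg_of_add_eq_zero_right h, smul_neg, smul_smul,
          neg_mul, neg_smul]
      have hinj : Function.Injective (s x hx0 hx) := fun l m e => smul_left_injective K hx0
        (mulVec_injective g (by simp only [hs x hx0 hx, e]))
      obtain ⟨l, hl⟩ := Finite.injective_iff_surjective.1 hinj (-b⁻¹ * a)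
      have h2 : y = l • x := mulVec_injective g (by simp only [hs x hx0 hx, hl, h1])
      rw [h2, E.herm.smul_left, hx, mul_zero] at hyx
      exact zero_ne_one hyx
    have key : ∀ (k : K) (ρ : K), ρ + τ ρ = 0 → s y hy0 hy (k * ρ) = s x hx0 hx k * s y hy0 hy ρ := by
      intro k ρ hρ
      have hw : β (x + ρ • y) (x + ρ • y) = 0 := by
        simp only [E.herm.add_left, E.herm.add_right, E.herm.smul_left, E.herm.smul_right, hx, hy, hxy, hyx]
        linear_combination hρ
      have hw0 : x + ρ • y ≠ 0 := fun e => by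
        have h := congrArg (fun z => β z y) e
        simp only [E.herm.add_left, E.herm.smul_left, E.herm.zero_left, hy, hxy, mul_zero, add_zero] at h
        exact one_ne_zero h
      have h1 := hs _ hw0 hw k
      rw [smul_add, smul_smul, mulVec_add, mulVec_add, hs x hx0 hx, hs y hy0 hy, hs y hy0 hy ρ, smul_add,
        smul_smul] at h1
      obtain ⟨h2, h3⟩ := hind (s x hx0 hx k - s _ hw0 hw k) (s y hy0 hy (k * ρ) - s _ hw0 hw k * s y hy0 hy ρ)
        (by rw [sub_smul, sub_smul]; linear_combination (norm := module) h1)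
      rw [sub_eq_zero.1 h2, sub_eq_zero.1 h3]
    have hlin : ∀ (k : K) l, s y hy0 hy (k * l) = s x hx0 hx k * s y hy0 hy l := by
      intro k l
      have hadd : ∀ a b, s y hy0 hy (a + b) = s y hy0 hy a + s y hy0 hy b := fun a b =>
        smul_left_injective K (hgne hy0) (by
          simp only
          rw [add_smul, ← hs, ← hs, ← hs, add_smul, mulVec_add])
      have hsm : ∀ (c : F) a, s y hy0 hy (c • a) = c • s y hy0 hy a := fun c a =>
        smul_left_injective K (hgne hy0) (by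
          simp only
          rw [smul_assoc, ← hs, ← hs, smul_assoc, mulVec_smul])
      obtain ⟨θ, hθ⟩ := E.ext.exists_scalar
      obtain ⟨ζ, hζ0, hζ⟩ := E.ext.exists_skew_scalar
      obtain ⟨⟨a, b⟩, rfl⟩ := (E.ext.split hθ).2 l
      have hfix : ∀ a : fixG τ, s y hy0 hy (k * (a : K)) = s x hx0 hx k * s y hy0 hy (a : K) := fun a => by
        have h := key k _ (E.ext.skew_smul_fix hζ a.2)
        rw [mul_smul_comm, hsm, hsm, mul_smul_comm] at h
        exact smul_right_injective K hζ0 h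
      simp only [mul_add, mul_smul_comm, hadd, hsm, hfix]
    have heq : ∀ k, s x hx0 hx k = s y hy0 hy k := fun k => by
      have := hlin k 1
      rw [mul_one, hone, mul_one] at this
      exact this.symm
    exact ⟨heq, fun k l => by rw [heq, heq l, hlin k l]⟩
  obtain ⟨x₀, hx0, hx⟩ := hne
  obtain ⟨y₀, hy, hyx, hxy⟩ := E.exists_partner hx0 hx
  have hy0 : y₀ ≠ 0 := fun e => by rw [e, E.herm.zero_left] at hyx; exact zero_ne_one hyx
  obtain ⟨G, hG⟩ : ∃ G, G = s x₀ hx0 hx := ⟨_, rfl⟩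
  have hGy : ∀ k, s y₀ hy0 hy k = G k := fun k => by rw [hG, (pair x₀ y₀ hx0 hy0 hx hy hxy).1]
  have hGmul : ∀ k l, G (k * l) = G k * G l := hG ▸ (pair x₀ y₀ hx0 hy0 hx hy hxy).2
  have hnear : ∀ (u w : ι → F) hu0 hw0 hu hw, β u w ≠ 0 → (∀ k, s w hw0 hw k = G k) → ∀ k, s u hu0 hu k = G k := by
    intro u w hu0 hw0 hu hw huw hwG k
    obtain ⟨c, hc⟩ : ∃ c : K, τ c = (β u w)⁻¹ := ⟨_, E.ext.invol _⟩
    have hc0 : c ≠ 0 := fun e => huw (by rw [e, map_zero] at hc; exact inv_eq_zero.1 hc.symm)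
    have hcw0 : c • w ≠ 0 := smul_ne_zero hc0 hw0
    have hcw : β (c • w) (c • w) = 0 := by rw [E.herm.smul_left, E.herm.smul_right, hw, mul_zero, mul_zero]
    rw [(pair u (c • w) hu0 hcw0 hu hcw (by rw [E.herm.smul_right, hc, inv_mul_cancel₀ huw])).1]
    refine smul_left_injective K (hgne hcw0) ?_
    simp only
    rw [← hs, smul_smul, hs w hw0 hw, hs w hw0 hw c, smul_smul, hwG, hwG, hGmul]
  have hallG : ∀ u hu0 hu k, s u hu0 hu k = G k := by
    intro u hu0 hu
    by_cases h1 : β u x₀ = 0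
    swap
    · exact hnear u x₀ hu0 hx0 hu hx h1 fun k => by rw [hG]
    by_cases h2 : β u y₀ = 0
    swap
    · exact hnear u y₀ hu0 hy0 hu hy h2 hGy
    intro k
    have hw : β (u + x₀) (u + x₀) = 0 := by
      simp [E.herm.add_left, E.herm.add_right, hu, hx, h1, E.herm.zero_comm.1 h1]
    have hwy : β (u + x₀) y₀ = 1 := by rw [E.herm.add_left, h2, hxy, zero_add]
    have hw0 : u + x₀ ≠ 0 := fun e => by rw [e, E.herm.zero_left] at hwy; exact zero_ne_one hwy
    have hwG := hnear (u + x₀) y₀ hw0 hy0 hw hy (by rw [hwy]; exact one_ne_zero) hGy k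
    refine smul_left_injective K (hgne hu0) (add_right_cancel (b := G k • ((g : Matrix ι ι F) *ᵥ x₀)) ?_)
    simp only
    rw [← hs, ← smul_add, ← mulVec_add, hG, ← hs, ← mulVec_add, ← smul_add, hs (u + x₀) hw0 hw, hwG, hG]
  intro k
  refine ⟨G k, fun v => ?_⟩
  refine Submodule.span_induction (p := fun v _ => ∀ k, (g : Matrix ι ι F) *ᵥ (k • v) = G k • ((g : Matrix ι ι F) *ᵥ v))
    (fun u hu k => ?_) (fun k => by simp) (fun a b _ _ ha hb k => by
      rw [smul_add, mulVec_add, mulVec_add, ha, hb, smul_add])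
    (fun c a _ ha k => by rw [smul_smul, ha, ha c, smul_smul, hGmul])
    (E.herm.mem_span_paired (S := ⊤) Submodule.mem_top Submodule.mem_top hx hy hyx Submodule.mem_top) k
  by_cases hu0 : u = 0
  · simp [hu0]
  rw [hs u hu0 hu.2, hallG]

include hM

/-- An element outside the semilinear group gives an element acting as a transvection on a line. -/
theorem exists_phi (hiso : ∀ g ∈ M, Iso f g) (hr : Module.finrank F K = 3 ∨ Module.finrank F K = 5)
    (hdim : Module.finrank K (ι → F) = 2 ∨ 4 ≤ Module.finrank K (ι → F)) {g : GL ι F} (hg : g ∈ M)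
    (hns : ¬ Semi K g) :
    ∃ h ∈ M, ∃ v₁ : ι → F, v₁ ≠ 0 ∧ β v₁ v₁ = 0 ∧ ∃ φ : K →ₗ[F] F, φ ≠ 0 ∧ φ 1 = 0 ∧
      ∀ k : K, (h : Matrix ι ι F) *ᵥ (k • v₁) = k • v₁ + φ k • v₁ := by
  classical
  haveI : Finite K := E.finite_K
  haveI := FieldMax.finiteK (ι := ι) (F := F) (K := K)
  haveI : Finite (ι → F) := Pi.finite
  obtain ⟨v₀, -, hv00, hv0⟩ := E.herm.exists_iso_two (S := ⊤) (by rw [finrank_top]; omega)
  obtain ⟨u₀, hu0, hu, k, hk⟩ : ∃ u, u ≠ 0 ∧ β u u = 0 ∧ ∃ k : K, ∀ k' : K,
      (g : Matrix ι ι F) *ᵥ (k • u) ≠ k' • ((g : Matrix ι ι F) *ᵥ u) := by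
    by_contra hc
    push Not at hc
    exact hns (E.semi_of_iso_lines hc ⟨v₀, hv00, hv0⟩)
  obtain ⟨Z, hZdef⟩ : ∃ Z, Z = img g (kLine (K := K) u₀) := ⟨_, rfl⟩
  have hZ : Module.finrank F Z = Module.finrank F K := by rw [hZdef, finrank_img, finrank_kLine hu0]
  -- an isotropic vector in the image
  obtain ⟨p, hchar⟩ := CharP.exists F
  haveI : CharP K p := charP_of_injective_algebraMap (algebraMap F K).injective p
  haveI : Fact p.Prime := ⟨CharP.char_is_prime F p⟩
  obtain ⟨Φ, hΦ⟩ : ∃ Φ : Z →+ Z →+ K, ∀ a b : Z, Φ a b = β (a : ι → F) b := by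
    refine ⟨AddMonoidHom.mk' (fun a => AddMonoidHom.mk' (fun b => β (a : ι → F) b) fun b b' => ?_) fun a a' => ?_,
      fun a b => rfl⟩
    · exact E.herm.add_right _ _ _
    · ext b; exact E.herm.add_left _ _ _
  obtain ⟨T, hT⟩ : ∃ T : AddSubgroup K, ∀ k, k ∈ T ↔ τ k = k ∧ Algebra.trace F K k = 0 :=
    ⟨fixG τ ⊓ (LinearMap.ker (Algebra.trace F K)).toAddSubgroup, fun k => Iff.rfl⟩
  have hpK : ∀ k : K, p • k = 0 := fun k => by rw [nsmul_eq_mul, CharP.cast_eq_zero, zero_mul]
  have hdvd := dvd_card_zero (p := p) (fun a : Z => Subtype.ext (funext fun i => by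
      simp [CharP.cast_eq_zero])) hpK Φ T (fun a => by
      rw [hT, hΦ]
      refine ⟨E.herm.self_fixed _, ?_⟩
      have hm : (a : ι → F) ∈ img g (kLine (K := K) u₀) := by rw [← hZdef]; exact a.2
      obtain ⟨x, hx, hgx⟩ := hm
      obtain ⟨l, rfl⟩ := Submodule.mem_span_singleton.1 hx
      rw [← E.form, ← hgx, Matrix.toLin'_apply, hiso g hg, E.form, E.herm.smul_left, E.herm.smul_right, hu,
        mul_zero, mul_zero, map_zero]) (by
      rw [Module.natCard_eq_pow_finrank (K := F) (V := Z), hZ, ← Module.natCard_eq_pow_finrank (K := F) (V := K)]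
      exact E.ext.card_traceZero_lt T fun k hk => (hT k).1 hk)
  obtain ⟨v, hv, hvv, hv0'⟩ : ∃ v ∈ Z, β v v = 0 ∧ v ≠ 0 := by
    by_contra hc
    push Not at hc
    have h1 : Nat.card {a : Z // Φ a a = 0} = 1 := Nat.card_eq_one_iff_unique.2
      ⟨⟨fun a b => Subtype.ext (Subtype.ext (by
        rw [hc _ a.1.2 ((hΦ _ _).symm.trans a.2), hc _ b.1.2 ((hΦ _ _).symm.trans b.2)]))⟩,
        ⟨⟨0, by simp⟩⟩⟩
    rw [h1, Nat.dvd_one] at hdvd
    exact (Fact.out : p.Prime).one_lt.ne' hdvd
  rw [hZdef] at hv hZ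
  refine E.exists_phi_of_pair hM hr (E.exists_sep_iso hdim) hiso _ hg hu0 hu hv0' hvv hv
    (Nat.le_add_right _ _) (lt_of_le_of_ne (hZ ▸ Submodule.finrank_mono inf_le_left) fun h => ?_)
  have hle : img g (kLine (K := K) u₀) ≤ kLine (K := K) v :=
    inf_eq_left.1 (Submodule.eq_of_le_of_finrank_le inf_le_left (by omega))
  have h1 : (g : Matrix ι ι F) *ᵥ u₀ ∈ kLine (K := K) v :=
    hle ⟨u₀, Submodule.mem_span_singleton_self u₀, Matrix.toLin'_apply _ _⟩
  have h2 : (g : Matrix ι ι F) *ᵥ (k • u₀) ∈ kLine (K := K) v :=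
    hle ⟨k • u₀, Submodule.smul_mem _ k (Submodule.mem_span_singleton_self u₀), Matrix.toLin'_apply _ _⟩
  obtain ⟨a, ha⟩ := Submodule.mem_span_singleton.1 h1
  obtain ⟨b, hb⟩ := Submodule.mem_span_singleton.1 h2
  have ha0 : a ≠ 0 := fun e => mulVec_ne_zero g hu0 (by rw [← ha, e, zero_smul])
  exact hk (b / a) (by rw [← ha, ← hb, smul_smul, div_mul_cancel₀ _ ha0])

end Over

end CfsgLib.Classical22.UField
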