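/-
A hermitian space over an extension field: a rational structure made of full vectors and an element moving it.
-/
import Cfsg.Agent.Lib.Classical22.UField.Start
import Cfsg.Agent.S5660

set_option autoImplicit false
set_option linter.all false

namespace CfsgLib.Classical22.UField

open Matrix CfsgLib.Transvec CfsgLib.Transvec.Unitary
open CfsgLib.Classical22.FieldMax (kLine finrank_kLine Semi)
open scoped MatrixGroups

variable {ι : Type} [Fintype ι] [DecidableEq ι] {F : Type*} [Field F] [Fintype F]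
variable {K : Type*} [Field K] [Algebra F K] [Module K (ι → F)] [IsScalarTower F K (ι → F)]
variable [FiniteDimensional F K]
variable {σ : F ≃+* F} {τ : K ≃+* K} {f : (ι → F) → (ι → F) → F} {β : (ι → F) → (ι → F) → K}
variable {M : Subgroup (GL ι F)}

/-- An additive group over the fixed elements on which `β` is alternating with skew values. -/
structure Rat (τ : K ≃+* K) (β : (ι → F) → (ι → F) → K) (v : ι → F) (R : AddSubgroup (ι → F)) : Prop where
  mem : v ∈ R
  smul : ∀ ρ : K, τ ρ = ρ → ∀ x ∈ R, ρ • x ∈ R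
  alt : ∀ x ∈ R, β x x = 0
  skew : ∀ x ∈ R, ∀ y ∈ R, β x y + τ (β x y) = 0
  span : Submodule.span F (R : Set (ι → F)) = ⊤

namespace Over

variable (E : Over σ τ f β)
include E

/-- The group generated by fixed multiples of a frame. -/
theorem exists_rat {n : ℕ} (e : Fin n → ι → F) (h0 : ∀ i, β (e i) (e i) = 0)
    (hs : ∀ i j, β (e i) (e j) + τ (β (e i) (e j)) = 0) (hn : n = Module.finrank K (ι → F))
    (hli : ∀ c : Fin n → K, (∀ j, β (∑ i, c i • e i) (e j) = 0) → c = 0) (i₀ : Fin n) :
    ∃ R : AddSubgroup (ι → F), Rat τ β (e i₀) R ∧ ∀ i, e i ∈ R := by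
  haveI := FieldMax.finiteK (ι := ι) (F := F) (K := K)
  obtain ⟨G, hG⟩ : ∃ G : Set (ι → F), G = {x | ∃ (ρ : K) (i : Fin n), τ ρ = ρ ∧ x = ρ • e i} := ⟨_, rfl⟩
  have hmem : ∀ i, e i ∈ AddSubgroup.closure G := fun i =>
    AddSubgroup.subset_closure (hG ▸ ⟨1, i, map_one τ, (one_smul K _).symm⟩)
  have hsmul : ∀ ρ : K, τ ρ = ρ → ∀ x ∈ AddSubgroup.closure G, ρ • x ∈ AddSubgroup.closure G := by
    intro ρ hρ x hx
    induction hx using AddSubgroup.closure_induction with
    | mem x hx =>
      rw [hG] at hx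
      obtain ⟨μ, i, hμ, rfl⟩ := hx
      exact AddSubgroup.subset_closure (hG ▸ ⟨ρ * μ, i, by rw [map_mul, hρ, hμ], smul_smul _ _ _⟩)
    | zero => rw [smul_zero]; exact zero_mem _
    | add a b _ _ ha hb => rw [smul_add]; exact add_mem ha hb
    | neg a _ ha => rw [smul_neg]; exact neg_mem ha
  have hskew : ∀ x ∈ AddSubgroup.closure G, ∀ y ∈ AddSubgroup.closure G, β x y + τ (β x y) = 0 := by
    intro x hx y hy
    induction hx using AddSubgroup.closure_induction with
    | mem x hx =>
      rw [hG] at hx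
      obtain ⟨μ, i, hμ, rfl⟩ := hx
      induction hy using AddSubgroup.closure_induction with
      | mem y hy =>
        rw [hG] at hy
        obtain ⟨ρ, j, hρ, rfl⟩ := hy
        rw [E.herm.smul_left, E.herm.smul_right, map_mul, map_mul, hμ, hρ, hρ]
        linear_combination (μ * ρ) * hs i j
      | zero => simp [E.herm.zero_right]
      | add a b _ _ ha hb => rw [E.herm.add_right, map_add]; linear_combination ha + hb
      | neg a _ ha => rw [E.herm.neg_right, map_neg]; linear_combination -ha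
    | zero => simp [E.herm.zero_left]
    | add a b _ _ ha hb => rw [E.herm.add_left, map_add]; linear_combination ha + hb
    | neg a _ ha => rw [E.herm.neg_left, map_neg]; linear_combination -ha
  have halt : ∀ x ∈ AddSubgroup.closure G, β x x = 0 := by
    intro x hx
    induction hx using AddSubgroup.closure_induction with
    | mem x hx =>
      rw [hG] at hx
      obtain ⟨μ, i, hμ, rfl⟩ := hx
      rw [E.herm.smul_left, E.herm.smul_right, h0, mul_zero, mul_zero]
    | zero => rw [E.herm.zero_left]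
    | add a b ha' hb' ha hb =>
      rw [E.herm.add_left, E.herm.add_right, E.herm.add_right, ha, hb, E.herm.herm b a]
      linear_combination hskew a ha' b hb'
    | neg a _ ha => rw [E.herm.neg_left, E.herm.neg_right, ha, neg_zero, neg_zero]
  refine ⟨AddSubgroup.closure G, ⟨hmem i₀, hsmul, halt, hskew, ?_⟩, hmem⟩
  have hlin : LinearIndependent K e := Fintype.linearIndependent_iff.2 fun c hc => congrFun (hli c fun j => by
    rw [hc, E.herm.zero_left])
  haveI : Nonempty (Fin n) := ⟨i₀⟩
  have htop := hlin.span_eq_top_of_card_eq_finrank (by rw [Fintype.card_fin]; exact hn)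
  refine Submodule.eq_top_iff'.2 fun x => ?_
  have hx : x ∈ Submodule.span K (Set.range e) := htop ▸ Submodule.mem_top
  obtain ⟨θ, hθ⟩ := E.ext.exists_scalar
  have key : ∀ (k : K) i, k • e i ∈ Submodule.span F (AddSubgroup.closure G : Set (ι → F)) := fun k i => by
    obtain ⟨⟨a, b⟩, rfl⟩ := (E.ext.split hθ).2 k
    simp only [add_smul, smul_assoc]
    exact Submodule.add_mem _ (Submodule.subset_span (hsmul _ a.2 _ (hmem i)))
      (Submodule.smul_mem _ _ (Submodule.subset_span (hsmul _ b.2 _ (hmem i))))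
  obtain ⟨c, rfl⟩ := (Submodule.mem_span_range_iff_exists_fun K).1 hx
  exact Submodule.sum_mem _ fun i _ => key _ i

/-- A frame through a given isotropic vector. -/
theorem exists_frame (hdim : Module.finrank K (ι → F) = 2 ∨ Module.finrank K (ι → F) = 4) {v : ι → F}
    (hv0 : v ≠ 0) (hv : β v v = 0) :
    ∃ R : AddSubgroup (ι → F), Rat τ β v R ∧ (Module.finrank K (ι → F) = 4 →
      ∃ e ∈ R, ∃ y ∈ R, ∃ w ∈ R, β e v = 0 ∧ β y e = 0 ∧ β y v ≠ 0 ∧ β e w ≠ 0) := by
  classical
  haveI : Finite K := E.finite_K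
  haveI := FieldMax.finiteK (ι := ι) (F := F) (K := K)
  obtain ⟨z, hz, hzv, hvz⟩ := E.exists_partner hv0 hv
  obtain ⟨ζ, hζ0, hζ⟩ := E.ext.exists_skew_scalar
  obtain ⟨κ, hκ⟩ : ∃ κ : K, κ = algebraMap F K ζ := ⟨_, rfl⟩
  have hκ0 : κ ≠ 0 := hκ ▸ (map_ne_zero_iff _ (algebraMap F K).injective).2 hζ0
  have hκs : τ κ = -κ := eq_neg_of_add_eq_zero_right (by rw [hκ, E.ext.alg, ← map_add, hζ, map_zero])
  rcases hdim with h2 | h4
  · obtain ⟨R, hR, -⟩ := E.exists_rat ![v, κ • z]
      (fun i => by fin_cases i <;> simp [hv, hz, E.herm.smul_left, E.herm.smul_right])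
      (fun i j => by
        fin_cases i <;> fin_cases j <;> simp [hv, hz, hzv, hvz, E.herm.smul_left, E.herm.smul_right, hκs])
      h2.symm (fun c hc => by
        have h1 := hc 0
        have h2 := hc 1
        simp [Fin.sum_univ_two, E.herm.add_left, E.herm.smul_left, E.herm.smul_right, hv, hz, hzv, hvz, hκ0, hκs] at h1 h2
        funext i
        fin_cases i <;> simp [h1, h2]) 0
    exact ⟨R, hR, fun h => by omega⟩
  · obtain ⟨P, hP⟩ : ∃ P : Submodule K (ι → F), P = Submodule.span K {v, z} := ⟨_, rfl⟩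
    have hP2 : Module.finrank K P ≤ 2 := hP ▸ le_trans (finrank_span_le_card _) (by
      rw [Set.toFinset_insert, Set.toFinset_singleton]; exact Finset.card_le_two)
    obtain ⟨u, hu0, hu, huP, -⟩ := E.herm.exists_iso_notMem (P := P) (P' := ⊥)
      (by rw [finrank_bot]; omega)
    have huv : β u v = 0 := huP v (hP ▸ Submodule.subset_span (by simp))
    have huz : β u z = 0 := huP z (hP ▸ Submodule.subset_span (by simp))
    have hvP : v ∈ P := hP ▸ Submodule.subset_span (by simp)
    have hzP : z ∈ P := hP ▸ Submodule.subset_span (by simp)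
    have hu' : u ∉ P := fun h => by
      rw [hP] at h
      obtain ⟨a, b, hab⟩ := Submodule.mem_span_pair.1 h
      rw [← hab] at huv huz
      simp [E.herm.add_left, E.herm.smul_left, hv, hz, hzv, hvz] at huv huz
      rw [huv, huz, zero_smul, zero_smul, add_zero] at hab
      exact hu0 hab.symm
    obtain ⟨r, hr, hru⟩ := E.herm.exists_sep hu'
    obtain ⟨t, htS, ht, htu, hut⟩ := E.herm.exists_partner (S := E.herm.perp P) huP hr hu
      (by rw [hru]; exact one_ne_zero)
    have htv : β t v = 0 := htS v hvP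
    have htz : β t z = 0 := htS z hzP
    have hvu := E.herm.zero_comm.1 huv
    have hzu := E.herm.zero_comm.1 huz
    have hvt := E.herm.zero_comm.1 htv
    have hzt := E.herm.zero_comm.1 htz
    obtain ⟨R, hR, hmem⟩ := E.exists_rat ![v, κ • z, u, κ • t]
      (fun i => by fin_cases i <;> simp [hv, hz, hu, ht, E.herm.smul_left, E.herm.smul_right])
      (fun i j => by
        fin_cases i <;> fin_cases j <;>
          simp [hv, hz, hu, ht, hzv, hvz, htu, hut, huv, huz, htv, htz, hvu, hzu, hvt, hzt, E.herm.smul_left,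
            E.herm.smul_right, hκs])
      h4.symm (fun c hc => by
        have h1 := hc 0
        have h2 := hc 1
        have h3 := hc 2
        have h5 := hc 3
        simp [Fin.sum_univ_four, E.herm.add_left, E.herm.smul_left, E.herm.smul_right, hv, hz, hu, ht, hzv, hvz,
          htu, hut, huv, huz, htv, htz, hvu, hzu, hvt, hzt, hκ0, hκs] at h1 h2 h3 h5
        funext i
        fin_cases i <;> simp [h1, h2, h3, h5]) 0
    refine ⟨R, hR, fun _ => ⟨u, hmem 2, κ • z, hmem 1, κ • t, hmem 3, huv, ?_, ?_, ?_⟩⟩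
    · rw [E.herm.smul_left, hzu, mul_zero]
    · rw [E.herm.smul_left, hzv, mul_one]; exact hκ0
    · rw [E.herm.smul_right, hut, mul_one, hκs]; exact neg_ne_zero.2 hκ0

variable (hM : LinIn β M)
include hM

/-- Transitivity on the rational vectors. -/
theorem rat_move {v : ι → F} {R : AddSubgroup (ι → F)} (hR : Rat τ β v R) {a b : ι → F} (ha : a ∈ R) (hb : b ∈ R)
    (ha0 : a ≠ 0) (hb0 : b ≠ 0) : ∃ T ∈ M, Iso f T ∧ (T : Matrix ι ι F) *ᵥ a = b := by
  have hnd : ∀ x ∈ R, x ≠ 0 → ∃ y ∈ R, β x y ≠ 0 := fun x hx hx0 => by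
    by_contra hc
    push Not at hc
    refine hx0 (E.herm.eq_zero_left fun y => ?_)
    refine Submodule.span_induction (p := fun y _ => β x y = 0) (fun y hy => hc y hy) (E.herm.zero_right x)
      (fun a b _ _ h1 h2 => by rw [E.herm.add_right, h1, h2, add_zero])
      (fun c a _ h1 => by rw [E.smul_right_F, h1, mul_zero]) (hR.span ▸ Submodule.mem_top : y ∈ _)
  obtain ⟨c, hc, hac, hbc⟩ : ∃ c ∈ R, β a c ≠ 0 ∧ β c b ≠ 0 := by
    obtain ⟨y, hy, hay⟩ := hnd a ha ha0
    obtain ⟨y', hy', hby⟩ := hnd b hb hb0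
    rw [Ne, E.herm.zero_comm] at hby
    by_cases h1 : β y b = 0
    · by_cases h2 : β a y' = 0
      · exact ⟨y + y', R.add_mem hy hy', by rwa [E.herm.add_right, h2, add_zero],
          by rwa [E.herm.add_left, h1, zero_add]⟩
      · exact ⟨y', hy', h2, hby⟩
    · exact ⟨y, hy, hay, h1⟩
  obtain ⟨T, hT, hTb, -, he⟩ := E.exists_move_skew hM (hR.alt a ha) (hR.alt c hc) hac (hR.skew a ha c hc)
  obtain ⟨T', hT', hTb', -, he'⟩ := E.exists_move_skew hM (hR.alt c hc) (hR.alt b hb) hbc (hR.skew c hc b hb)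
  exact ⟨T' * T, M.mul_mem hT' hT, E.iso_of_beta fun x y => by simp only [mul_mulVec, hTb', hTb],
    by rw [mul_mulVec, he, he']⟩

/-- A group containing the linear isometries and a non-semilinear one contains all transvections. -/
theorem ufull_all (hiso : ∀ g ∈ M, Iso f g) (hr : Module.finrank F K = 3 ∨ Module.finrank F K = 5)
    (hdim : Module.finrank K (ι → F) = 2 ∨ Module.finrank K (ι → F) = 4)
    (hsmall : Module.finrank K (ι → F) = 2 → Module.finrank F K * (Fintype.card F - 1) ≤ Nat.card (fixG τ))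
    {g : GL ι F} (hg : g ∈ M) (hns : ¬ Semi K g) : ∀ x, f x x = 0 → UFull σ f M x := by
  classical
  haveI : Finite K := E.finite_K
  haveI := FieldMax.finiteK (ι := ι) (F := F) (K := K)
  obtain ⟨h, hh, v₁, hv₁0, hv₁, φ, hφ0, hφ1, hact⟩ := E.exists_phi hM hiso hr (by omega) hg hns
  obtain ⟨v, μ, hv0, hv, hμ0, hμ, hvT⟩ := E.exists_uT hM hiso hr hh hv₁0 hv₁ hφ0 hφ1 hact
  have hvfull := E.ufull_of_uT hM hv0 hv hμ0 hμ hvT
  obtain ⟨R, hR, h4⟩ := E.exists_frame hdim hv0 hv
  obtain ⟨ζ, hζ0, hζ⟩ := E.ext.exists_skew_scalar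
  obtain ⟨F₀, hF₀⟩ : ∃ F₀ : Subfield F, F₀ = RingHom.eqLocusField (σ : F →+* F) (RingHom.id F) := ⟨_, rfl⟩
  have hfix : ∀ x, σ x = x ↔ x ∈ F₀ := fun x => by rw [hF₀]; rfl
  have hsm : ∀ (c : F), σ c = c → ∀ x ∈ R, c • x ∈ R := fun c hc x hx => by
    rw [← algebraMap_smul K c x]
    exact hR.smul _ (by rw [E.ext.alg, hc]) x hx
  -- a basis in the rational vectors
  obtain ⟨b, hb⟩ : ∃ b : Module.Basis ι F (ι → F), ∀ i, b i ∈ R := by
    let B₀ := Module.Basis.ofSpan (le_of_eq hR.span.symm)
    refine ⟨B₀.reindex (B₀.indexEquiv (Pi.basisFun F ι)), fun i => ?_⟩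
    rw [Module.Basis.reindex_apply]
    exact Module.Basis.ofSpan_subset _ ⟨_, rfl⟩
  obtain ⟨P, hP⟩ : ∃ P : GL ι F, ∀ x, (P : Matrix ι ι F) *ᵥ x = ∑ i, x i • b i := by
    refine ⟨glOfInjective (b.equivFun.symm : (ι → F) →ₗ[F] (ι → F)) (LinearEquiv.injective _), fun x => ?_⟩
    rw [glOfInjective_mulVec, LinearEquiv.coe_coe, Module.Basis.equivFun_symm_apply]
  have hrv : ∀ u : ι → F₀, Cfsg.Agent.S5660.rv P u ∈ R := fun u => by
    rw [Cfsg.Agent.S5660.rv, hP]
    exact R.sum_mem fun i _ => hsm _ ((hfix _).2 (u i).2) _ (hb i)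
  have hPR : Cfsg.Geo.IsFormRationalStructure f F₀ ζ P := fun x y hx hy => by
    have h1 : ∀ x : ι → F, (∀ i, x i ∈ F₀) → (P : Matrix ι ι F) *ᵥ x ∈ R := fun x hx => by
      rw [hP]
      exact R.sum_mem fun i _ => hsm _ ((hfix _).2 (hx i)) _ (hb i)
    refine (hfix _).1 ?_
    have h2 := E.ext.trace_skew (hR.skew _ (h1 x hx) _ (h1 y hy))
    rw [← E.form] at h2
    rw [map_mul, show σ ζ = -ζ by linear_combination hζ, eq_neg_of_add_eq_zero_right h2]
    ring
  have halt : ∀ u : ι → F₀, f (Cfsg.Agent.S5660.rv P u) (Cfsg.Agent.S5660.rv P u) = 0 := fun u => by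
    rw [E.form, hR.alt _ (hrv u), map_zero]
  have hfullR : ∀ x ∈ R, UFull σ f M x := fun x hx => by
    by_cases hx0 : x = 0
    · have := ufull_smul E.uni hvfull (0 : F)
      rwa [zero_smul, ← hx0] at this
    obtain ⟨T, hT, hTi, rfl⟩ := E.rat_move hM hR hR.mem hx hv0 hx0
    exact ufull_conj E.uni hT hTi hvfull
  -- an element moving the rational vectors
  obtain ⟨g₁, hg₁, hg₁i, hg₁P⟩ : ∃ g₁ ∈ M, Iso f g₁ ∧ g₁ ∉ Cfsg.Geo.subfieldSubgroup F₀ P := by
    have hRrat : ∀ x ∈ R, ∃ u : ι → F₀, Cfsg.Agent.S5660.rv P u = x := by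
      intro x hx
      obtain ⟨c, hc⟩ : ∃ c : ι → F, c = ((P⁻¹ : GL ι F) : Matrix ι ι F) *ᵥ x := ⟨_, rfl⟩
      have hxc : (P : Matrix ι ι F) *ᵥ c = x := by rw [hc, mulVec_inv_cancel]
      obtain ⟨θ, hθ⟩ := E.ext.exists_scalar
      have hd : θ - σ θ ≠ 0 := sub_ne_zero.2 fun e => hθ e.symm
      have hd' : σ θ - θ ≠ 0 := sub_ne_zero.2 hθ
      obtain ⟨a, ha⟩ : ∃ a : ι → F, ∀ i, a i = (c i - σ (c i)) / (θ - σ θ) := ⟨_, fun i => rfl⟩
      have haσ : ∀ i, σ (a i) = a i := fun i => by
        rw [ha, map_div₀, map_sub, map_sub, E.ext.invol₀, E.ext.invol₀, div_eq_div_iff hd' hd]; ring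
      obtain ⟨d, hd₀⟩ : ∃ d : ι → F, ∀ i, d i = c i - θ * a i := ⟨_, fun i => rfl⟩
      have hdσ : ∀ i, σ (d i) = d i := fun i => by
        rw [hd₀, map_sub, map_mul, haσ, ha]; field_simp; ring
      have haR : (P : Matrix ι ι F) *ᵥ a ∈ R := by
        rw [hP]; exact R.sum_mem fun i _ => hsm _ (haσ i) _ (hb i)
      have hdR : (P : Matrix ι ι F) *ᵥ d ∈ R := by
        rw [hP]; exact R.sum_mem fun i _ => hsm _ (hdσ i) _ (hb i)
      have e : x = (P : Matrix ι ι F) *ᵥ d + θ • ((P : Matrix ι ι F) *ᵥ a) := by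
        rw [← hxc, ← mulVec_smul, ← mulVec_add]
        congr 1
        funext i
        simp [hd₀]
      have ha0 : (P : Matrix ι ι F) *ᵥ a = 0 := by
        refine E.herm.eq_zero_left fun y => ?_
        refine Submodule.span_induction (p := fun y _ => β ((P : Matrix ι ι F) *ᵥ a) y = 0) (fun y hy => ?_)
          (E.herm.zero_right _) (fun a b _ _ h1 h2 => by rw [E.herm.add_right, h1, h2, add_zero])
          (fun c a _ h1 => by rw [E.smul_right_F, h1, mul_zero]) (hR.span ▸ Submodule.mem_top : y ∈ _)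
        have h1 := hR.skew x hx y hy
        rw [e, E.herm.add_left, E.smul_left_F, map_add, map_mul, E.ext.alg] at h1
        have hne : algebraMap F K θ - algebraMap F K (σ θ) ≠ 0 :=
          sub_ne_zero.2 fun e => hθ ((algebraMap F K).injective e).symm
        refine (mul_eq_zero.1 ?_).resolve_left hne
        linear_combination h1 - hR.skew _ hdR y hy - algebraMap F K (σ θ) * hR.skew _ haR y hy
      refine ⟨fun i => ⟨d i, (hfix _).1 (hdσ i)⟩, ?_⟩
      rw [e, ha0, smul_zero, add_zero]
      rfl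
    have lines : ∀ g₁ : GL ι F, g₁ ∈ Cfsg.Geo.subfieldSubgroup F₀ P → ∀ x ∈ R, ∃ (l : F), ∃ r ∈ R,
        (g₁ : Matrix ι ι F) *ᵥ x = l • r := fun g₁ hg₁ x hx => by
      obtain ⟨u, rfl⟩ := hRrat x hx
      obtain ⟨l, r, hlr⟩ := lines_of_mem_subfieldSubgroup hg₁ u
      exact ⟨l, _, hrv r, hlr⟩
    rcases hdim with h2 | hd4
    · obtain ⟨κ, hκ, hκ'⟩ : ∃ κ : K, κ * τ κ = 1 ∧ κ ^ (Module.finrank F K * (Fintype.card F - 1)) ≠ 1 := by
        haveI : Fintype K := Fintype.ofFinite K
        obtain ⟨S, hS⟩ : ∃ S : Finset K, S = ((Finset.univ : Finset K).erase 0).image fun x => x / τ x := ⟨_, rfl⟩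
        by_contra hc
        push Not at hc
        have hN : 0 < Module.finrank F K * (Fintype.card F - 1) :=
          Nat.mul_pos Module.finrank_pos (by have := Fintype.one_lt_card (α := F); omega)
        have h1 : S.card ≤ Module.finrank F K * (Fintype.card F - 1) := by
          refine le_trans (Finset.card_le_card fun κ hκ => ?_) (le_trans (Multiset.toFinset_card_le _)
            (Polynomial.card_nthRoots _ (1 : K)))
          rw [hS, Finset.mem_image] at hκ
          obtain ⟨x, hx, rfl⟩ := hκ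
          have hx0 : x ≠ 0 := (Finset.mem_erase.1 hx).1
          rw [Multiset.mem_toFinset, Polynomial.mem_nthRoots hN]
          refine hc _ ?_
          rw [map_div₀, E.ext.invol, div_mul_div_cancel₀ ((map_ne_zero_iff _ τ.injective).2 hx0), div_self hx0]
        obtain ⟨Φ, hΦ⟩ : ∃ Φ : Finset K, Φ = Finset.univ.filter fun x => τ x = x ∧ x ≠ 0 := ⟨_, rfl⟩
        have h2' : ((Finset.univ : Finset K).erase 0).card ≤ Φ.card * S.card := by
          rw [hS]
          refine Finset.card_le_mul_card_image _ _ fun κ hκ => ?_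
          rw [Finset.mem_image] at hκ
          obtain ⟨x₀, hx₀, rfl⟩ := hκ
          have hx0 : x₀ ≠ 0 := (Finset.mem_erase.1 hx₀).1
          refine Finset.card_le_card_of_injOn (fun x => x / x₀) (fun x hx => ?_) fun x _ y _ e => (div_left_inj' hx0).1 e
          simp only [Finset.coe_filter, Set.mem_setOf_eq, Finset.mem_erase] at hx
          obtain ⟨⟨hxne, -⟩, hxe⟩ := hx
          rw [hΦ, Finset.mem_coe, Finset.mem_filter]
          refine ⟨Finset.mem_univ _, ?_, div_ne_zero hxne hx0⟩
          rw [div_eq_div_iff ((map_ne_zero_iff _ τ.injective).2 hxne) ((map_ne_zero_iff _ τ.injective).2 hx0)] at hxe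
          rw [map_div₀, div_eq_div_iff ((map_ne_zero_iff _ τ.injective).2 hx0) hx0]
          linear_combination -hxe
        have h3 : Φ.card + 1 ≤ Nat.card (fixG τ) := by
          rw [Nat.card_eq_fintype_card, ← Finset.card_insert_of_notMem (s := Φ) (a := 0) (by rw [hΦ]; simp)]
          refine Finset.card_le_card_of_injOn (t := Finset.univ)
            (fun x => if h : τ x = x then (⟨x, h⟩ : fixG τ) else 0) (fun x _ => Finset.mem_coe.2 (Finset.mem_univ _))
            fun x hx y hy e => ?_
          have hm : ∀ x ∈ (insert 0 Φ : Finset K), τ x = x := fun x hx => by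
            rw [Finset.mem_insert, hΦ, Finset.mem_filter] at hx
            rcases hx with rfl | hx
            · exact map_zero τ
            · exact hx.2.1
          simp only [dif_pos (hm x hx), dif_pos (hm y hy)] at e
          exact congrArg Subtype.val e
        rw [Finset.card_erase_of_mem (Finset.mem_univ _), Finset.card_univ, ← Nat.card_eq_fintype_card,
          ← E.ext.card_fix] at h2'
        have h4' := hsmall h2
        have : 2 ≤ Nat.card (fixG τ) := by
          haveI : Nontrivial (fixG τ) := ⟨⟨0, map_zero τ⟩, ⟨1, map_one τ⟩, fun e => zero_ne_one (congrArg Subtype.val e)⟩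
          exact Finite.one_lt_card
        have h5 : Φ.card * S.card ≤ (Nat.card (fixG τ) - 1) * Nat.card (fixG τ) :=
          Nat.mul_le_mul (by omega) (h1.trans h4')
        have h6 := h2'.trans h5
        obtain ⟨m, hm⟩ : ∃ m, Nat.card (fixG τ) = m + 2 := ⟨_, (Nat.sub_add_cancel this).symm⟩
        rw [hm, show m + 2 - 1 = m + 1 from rfl] at h6
        have : (m + 2) ^ 2 ≤ (m + 1) * (m + 2) + 1 := by omega
        nlinarith
      obtain ⟨lam, hlam⟩ : ∃ lam, lam = κ ^ (Fintype.card F - 1) := ⟨_, rfl⟩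
      have hκ0 : κ ≠ 0 := fun e => by rw [e, zero_mul] at hκ; exact zero_ne_one hκ
      have hlam1 : lam * τ lam = 1 := by rw [hlam, map_pow, ← mul_pow, hκ, one_pow]
      have hNlam : Algebra.norm F lam = 1 := by
        rw [hlam, map_pow, FiniteField.pow_card_sub_one_eq_one _ (Algebra.norm_ne_zero_iff.2 hκ0)]
      have hlamF : ∀ c : F, algebraMap F K c ≠ lam := fun c hc => hκ' (by
        rw [mul_comm, pow_mul, ← hlam, ← hc, ← map_pow, ← Algebra.norm_algebraMap c, hc, hNlam, map_one])
      obtain ⟨L, hL⟩ : ∃ L : (ι → F) →ₗ[K] (ι → F), ∀ x, L x = lam • x := ⟨lam • LinearMap.id, fun x => rfl⟩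
      have hlam0 : lam ≠ 0 := fun e => by rw [e, zero_mul] at hlam1; exact zero_ne_one hlam1
      have hinj : Function.Injective (L.restrictScalars F) := fun x y e => by
        simp only [LinearMap.restrictScalars_apply, hL] at e
        exact smul_right_injective _ hlam0 e
      obtain ⟨g₁, hg₁⟩ : ∃ g₁ : GL ι F, ∀ x, (g₁ : Matrix ι ι F) *ᵥ x = lam • x :=
        ⟨glOfInjective _ hinj, fun x => by rw [glOfInjective_mulVec, LinearMap.restrictScalars_apply, hL]⟩
      have hbet : ∀ x y, β ((g₁ : Matrix ι ι F) *ᵥ x) ((g₁ : Matrix ι ι F) *ᵥ y) = β x y := fun x y => by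
        rw [hg₁, hg₁, E.herm.smul_left, E.herm.smul_right]; linear_combination (β x y) * hlam1
      have hdet : (g₁ : Matrix ι ι F).det = 1 := by
        rw [← LinearMap.det_toLin', show Matrix.toLin' (g₁ : Matrix ι ι F) = L.restrictScalars F from
          LinearMap.ext fun x => by simp [hg₁, hL], LinearMap.det_restrictScalars,
          show L = lam • LinearMap.id from LinearMap.ext fun x => by simp [hL], LinearMap.det_smul, LinearMap.det_id,
          mul_one, map_pow, hNlam, one_pow]
      refine ⟨g₁, hM g₁ (fun k x => by rw [hg₁, hg₁, smul_comm]) hbet hdet, E.iso_of_beta hbet, fun hmem => ?_⟩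
      obtain ⟨l, r, hrR, hlr⟩ := lines g₁ hmem v hR.mem
      rw [hg₁] at hlr
      obtain ⟨y, hy, hvy⟩ : ∃ y ∈ R, β v y ≠ 0 := by
        by_contra hc
        push Not at hc
        refine hv0 (E.herm.eq_zero_left fun y => ?_)
        refine Submodule.span_induction (p := fun y _ => β v y = 0) (fun y hy => hc y hy) (E.herm.zero_right v)
          (fun a b _ _ h1 h2 => by rw [E.herm.add_right, h1, h2, add_zero])
          (fun c a _ h1 => by rw [E.smul_right_F, h1, mul_zero]) (hR.span ▸ Submodule.mem_top : y ∈ _)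
      have h1 : lam * β v y = algebraMap F K l * β r y := by rw [← E.herm.smul_left, hlr, E.smul_left_F]
      have h1' := congrArg τ h1
      rw [map_mul, map_mul, E.ext.alg, show τ (β v y) = -β v y by linear_combination hR.skew v hR.mem y hy,
        show τ (β r y) = -β r y by linear_combination hR.skew r hrR y hy] at h1'
      have hl0 : algebraMap F K l ≠ 0 := fun e => by
        rw [e, zero_mul] at h1
        exact mul_ne_zero hlam0 hvy h1
      have hσl0 : algebraMap F K (σ l) ≠ 0 :=
        (map_ne_zero_iff _ (algebraMap F K).injective).2 ((map_ne_zero_iff _ σ.injective).2 fun e => hl0 (by rw [e, map_zero]))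
      have h7 : lam * algebraMap F K (σ l) = τ lam * algebraMap F K l := by
        refine mul_right_cancel₀ hvy ?_
        linear_combination algebraMap F K (σ l) * h1 + algebraMap F K l * h1'
      have h8 : lam * lam = algebraMap F K (l / σ l) := by
        rw [map_div₀, eq_div_iff hσl0]
        linear_combination lam * h7 + algebraMap F K l * hlam1
      have hpr : (Module.finrank F K).Prime := by rcases hr with h | h <;> rw [h] <;> norm_num
      have hint : IsIntegral F lam := Algebra.IsIntegral.isIntegral lam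
      have hle : (minpoly F lam).natDegree ≤ 2 := by
        refine le_trans (Polynomial.natDegree_le_natDegree (minpoly.min F lam
          (Polynomial.monic_X_pow_sub_C (l / σ l) two_ne_zero) (by simp [pow_two, h8]))) ?_
        rw [Polynomial.natDegree_X_pow_sub_C]
      rcases (Nat.dvd_prime hpr).1 (minpoly.degree_dvd hint) with hdeg | hdeg
      · obtain ⟨c, hc⟩ := minpoly.natDegree_eq_one_iff.1 hdeg
        exact hlamF c hc
      · omega
    · obtain ⟨e, he, y, hy, w, hw, hev, hye, hyv, hew⟩ := h4 hd4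
      obtain ⟨k, hk⟩ : ∃ k : K, k + τ k ≠ 0 := Transvec.Unitary.exists_trace_ne_zero E.ext.tau_ne_refl
      obtain ⟨g₁, hg₁, hb₁, -, he₁⟩ := E.exists_kR hM (v := v) (u := k • e) hv
        (by rw [E.herm.smul_left, E.herm.smul_right, hR.alt e he, mul_zero, mul_zero])
        (by rw [E.herm.smul_right, E.herm.zero_comm.1 hev, mul_zero])
      refine ⟨g₁, hg₁, E.iso_of_beta hb₁, fun hmem => hk ?_⟩
      obtain ⟨l, r, hr', hlr⟩ := lines g₁ hmem y hy
      rw [he₁, E.herm.smul_right, hye, mul_zero, zero_smul, sub_zero] at hlr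
      have h1 := congrArg (fun z => β z v) hlr
      simp only [E.herm.add_left, E.herm.smul_left, E.smul_left_F, hev, mul_zero, add_zero] at h1
      have h1' := congrArg τ h1
      rw [map_mul, E.ext.alg, show τ (β y v) = -β y v by linear_combination hR.skew y hy v hR.mem,
        show τ (β r v) = -β r v by linear_combination hR.skew r hr' v hR.mem] at h1'
      have hrv0 : β r v ≠ 0 := fun e => hyv (by rw [h1, e, mul_zero])
      have hlfix : τ (algebraMap F K l) = algebraMap F K l := by
        rw [E.ext.alg]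
        refine mul_right_cancel₀ hrv0 ?_
        linear_combination h1 + h1'
      have h2 := congrArg (fun z => β z w) hlr
      simp only [E.herm.add_left, E.herm.smul_left, E.smul_left_F] at h2
      have h2' := congrArg τ h2
      rw [map_add, map_mul, map_mul, map_mul, hlfix, show τ (β y w) = -β y w by linear_combination hR.skew y hy w hw,
        show τ (β r w) = -β r w by linear_combination hR.skew r hr' w hw,
        show τ (β y v) = -β y v by linear_combination hR.skew y hy v hR.mem,
        show τ (β e w) = -β e w by linear_combination hR.skew e he w hw] at h2'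
      refine (mul_eq_zero.1 ?_).resolve_left (mul_ne_zero hyv hew)
      linear_combination h2 + h2'
  exact Cfsg.Agent.S5660.all_full E.uni hfix hζ0 hζ hPR halt
    (fun u c hc => (hfullR _ (hrv u)).2 c hc) hg₁ hg₁i hg₁P

end Over

end CfsgLib.Classical22.UField
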