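/-
Maximality of a unitary group over an extension field of degree three or five, in dimension two or four.
-/
import Cfsg.Agent.Lib.Classical22.UField.Full
import Cfsg.Agent.Lib.Classical22.UnitOverFinal

set_option autoImplicit false
set_option linter.all false

namespace CfsgLib.Classical22.UField

open Matrix CfsgLib.Transvec CfsgLib.Transvec.Unitary
open CfsgLib.Classical22.FieldMax (kLine finrank_kLine Semi)
open scoped MatrixGroups

variable {ι : Type} [Fintype ι] [DecidableEq ι] {F : Type*} [Field F] [Fintype F]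
variable {K : Type*} [Field K] [Algebra F K] [Module K (ι → F)] [IsScalarTower F K (ι → F)]
variable [FiniteDimensional F K]
variable {σ : F ≃+* F} {f : (ι → F) → (ι → F) → F}

/-- An adjoint-closed field of operators makes `f` the trace of a hermitian form. -/
theorem exists_over [Nonempty ι] (hf : Cfsg.Geo.IsUnitaryForm σ f)
    (hac : ∀ k : K, ∃ k' : K, ∀ x y, f (k • x) y = f x (k' • y)) :
    ∃ (τ : K ≃+* K) (β : (ι → F) → (ι → F) → K), Over σ τ f β := by
  haveI : Finite K := Module.finite_of_finite F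
  have hT := traceForm_nondegenerate F K
  obtain ⟨v₀, hv₀⟩ := exists_ne (0 : ι → F)
  have huniq : ∀ {a b : K}, (∀ x y, f x (a • y) = f x (b • y)) → a = b := by
    intro a b e
    by_contra hne
    obtain ⟨x, hx⟩ := (hf.nondegenerate ((a - b) • v₀) (smul_ne_zero (sub_ne_zero.2 hne) hv₀)).1
    exact hx (by rw [sub_smul, Unitary.sub_right' hf, e, sub_self])
  choose s hs using hac
  have hss : ∀ a, s (s a) = a := fun a => huniq fun x y => by
    rw [← hs, hf.herm, ← hs, ← hf.herm]
  have hadd : ∀ a b, s (a + b) = s a + s b := fun a b => huniq fun x y => by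
    rw [← hs, add_smul, add_smul, hf.add_left, Unitary.add_right' hf, hs, hs]
  have hmul : ∀ a b, s (a * b) = s a * s b := fun a b => huniq fun x y => by
    rw [← hs, mul_comm (s a), mul_smul, mul_smul, hs, hs]
  have hbase : ∀ c : F, s (algebraMap F K c) = algebraMap F K (σ c) := fun c => huniq fun x y => by
    rw [← hs, algebraMap_smul, algebraMap_smul, hf.smul_left, Unitary.smul_right' hf, hf.involutive]
  let τ : K ≃+* K :=
    { toFun := s
      invFun := s
      left_inv := hss
      right_inv := hss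
      map_mul' := hmul
      map_add' := hadd }
  have hτ : ∀ a, τ a = s a := fun _ => rfl
  have E₀ : Ext σ τ := ⟨hf.ne_refl, hf.involutive, hss, hbase⟩
  have hex : ∀ x y, ∃ b : K, ∀ k, Algebra.trace F K (b * k) = f (k • x) y := fun x y => by
    obtain ⟨b, hb⟩ := ((Algebra.traceForm F K).toDual hT).surjective
      { toFun := fun k => f (k • x) y
        map_add' := fun a b => by rw [add_smul, hf.add_left]
        map_smul' := fun c a => by rw [smul_assoc, hf.smul_left, RingHom.id_apply, smul_eq_mul] }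
    exact ⟨b, fun k => by rw [← Algebra.traceForm_apply, ← LinearMap.BilinForm.toDual_def (b := hT), hb]; rfl⟩
  choose β hβ using hex
  have huniq' : ∀ a c : K, (∀ k, Algebra.trace F K (a * k) = Algebra.trace F K (c * k)) → a = c := fun a c h =>
    sub_eq_zero.1 (hT.1 _ fun k => by rw [Algebra.traceForm_apply, sub_mul, map_sub, h, sub_self])
  refine ⟨τ, β, hf, E₀, ⟨E₀.tau_ne_refl, E₀.invol, fun x y v => huniq' _ _ fun k => ?_,
    fun c x v => huniq' _ _ fun k => ?_, fun v w => huniq' _ _ fun k => ?_, fun v hv => ?_⟩, fun x y => ?_⟩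
  · rw [add_mul, map_add, hβ, hβ, hβ, smul_add, hf.add_left]
  · rw [hβ, mul_comm c, mul_assoc, hβ, smul_smul, mul_comm k]
  · rw [hβ, show τ (β w v) * k = τ (β w v * τ k) by rw [map_mul, E₀.invol], E₀.trace_tau, hβ, ← hf.herm, hτ, ← hs]
  · by_contra hv0
    obtain ⟨x, hx⟩ := (hf.nondegenerate v hv0).1
    have := hβ x v 1
    rw [hv x, zero_mul, map_zero, one_smul] at this
    exact hx this.symm
  · rw [← mul_one (β x y), hβ, one_smul]

/-- The normaliser of an adjoint-closed subfield of degree three or five, in small dimension. -/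
theorem isMaximalIn_uField {n r q : ℕ} (hF : Fintype.card F = q ^ 2) (hr : r = 3 ∨ r = 5) (hn : n = 2 * r ∨ n = 4 * r)
    (hq : n = 6 → 3 ≤ q) (A : Subalgebra F (Matrix (Fin n) (Fin n) F)) (hA : Cfsg.Geo.IsFieldSubalgebra r A)
    (hac : Cfsg.Geo.IsAdjointClosedFor (Cfsg.hermForm n F q) A) :
    Cfsg.Geo.IsMaximalIn (Cfsg.GU n F q ⊓ Cfsg.Geo.specialLinear (Fin n) F)
      (Cfsg.Geo.subalgebraNormalizer A ⊓ (Cfsg.GU n F q ⊓ Cfsg.Geo.specialLinear (Fin n) F)) := by
  classical
  haveI : Nonempty (Fin n) := ⟨⟨0, by omega⟩⟩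
  haveI : Nontrivial A := Module.nontrivial_of_finrank_pos (R := F) (by rw [hA.finrank_eq]; omega)
  letI : CommRing A := { (inferInstance : Ring A) with mul_comm := fun a b => Subtype.ext (hA.comm _ a.2 _ b.2) }
  have hfield : IsField A :=
    { exists_pair_ne := exists_pair_ne A
      mul_comm := mul_comm
      mul_inv_cancel := fun {a} ha => by
        obtain ⟨y, hy, h⟩ := hA.inv _ a.2 (fun h0 => ha (Subtype.ext h0))
        exact ⟨⟨y, hy⟩, Subtype.ext h⟩ }
  letI : Field A := hfield.toField
  letI modA : Module A (Fin n → F) :=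
    Module.compHom _ (((Matrix.toLinAlgEquiv' : Matrix (Fin n) (Fin n) F ≃ₐ[F] _).toAlgHom.comp A.val).toRingHom)
  letI : SMul A (Fin n → F) := modA.toDistribMulAction.toSMul
  have hsmul : ∀ (a : A) (x : Fin n → F), a • x = (a : Matrix (Fin n) (Fin n) F) *ᵥ x := fun a x => rfl
  haveI : IsScalarTower F A (Fin n → F) := IsScalarTower.of_algebraMap_smul fun c x => by
    refine (hsmul _ x).trans ?_
    change (algebraMap F (Matrix (Fin n) (Fin n) F) c) *ᵥ x = c • x
    rw [Algebra.algebraMap_eq_smul_one, smul_mulVec, one_mulVec]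
  haveI : FiniteDimensional F A := Module.finite_of_finrank_pos (by rw [hA.finrank_eq]; omega)
  haveI := FieldMax.finiteK (ι := Fin n) (F := F) (K := A)
  haveI : Finite A := Module.finite_of_finite F
  obtain ⟨σ, hσ, hinv, hne⟩ := exists_frob hF
  have hf := isUnitaryForm_hermForm (n := n) hσ hinv hne
  obtain ⟨τ, β, E⟩ := exists_over (K := A) hf fun k => by
    obtain ⟨k', hk', h⟩ := hac k k.2
    exact ⟨⟨k', hk'⟩, fun x y => by rw [hsmul, hsmul]; exact h x y⟩
  have hdim : Module.finrank A (Fin n → F) = 2 ∨ Module.finrank A (Fin n → F) = 4 := by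
    have h := Module.finrank_mul_finrank F A (Fin n → F)
    rw [hA.finrank_eq, Module.finrank_fin_fun] at h
    rcases hn with rfl | rfl
    · exact Or.inl (Nat.eq_of_mul_eq_mul_left (show 0 < r by omega) (by rw [h, mul_comm]))
    · exact Or.inr (Nat.eq_of_mul_eq_mul_left (show 0 < r by omega) (by rw [h, mul_comm]))
  have hsmall : Module.finrank A (Fin n → F) = 2 →
      Module.finrank F A * (Fintype.card F - 1) ≤ Nat.card (fixG τ) := by
    intro h2
    have hfix : Nat.card (fixG τ) = q ^ r := by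
      refine Nat.pow_left_injective two_ne_zero ?_
      simp only
      rw [E.ext.card_fix, Module.natCard_eq_pow_finrank (K := F) (V := A), hA.finrank_eq, Nat.card_eq_fintype_card,
        hF, ← pow_mul, ← pow_mul, mul_comm]
    have hq2 : 2 ≤ q := by
      have := hF ▸ Fintype.one_lt_card (α := F)
      nlinarith
    have h := Module.finrank_mul_finrank F A (Fin n → F)
    rw [hA.finrank_eq, h2, Module.finrank_fin_fun] at h
    rw [hfix, hA.finrank_eq, hF]
    rcases hr with rfl | rfl
    · have := hq (by omega)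
      have h1 : 3 * q ^ 2 ≤ q ^ 3 := by
        rw [pow_succ' q 2]; exact Nat.mul_le_mul_right _ this
      omega
    · have h1 : 2 * 2 * 2 * q ^ 2 ≤ q ^ 5 := by
        calc 2 * 2 * 2 * q ^ 2 ≤ q * q * q * q ^ 2 :=
            Nat.mul_le_mul_right _ (Nat.mul_le_mul (Nat.mul_le_mul hq2 hq2) hq2)
          _ = q ^ 5 := by ring
      omega
  have hsemi : ∀ g : GL (Fin n) F, Semi A g → g ∈ Cfsg.Geo.subalgebraNormalizer A := fun g hg =>
    UnitOver.mem_normalizer_of_semi fun k hk => by
      obtain ⟨k', hk'⟩ := hg ⟨k, hk⟩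
      exact ⟨k', k'.2, fun x => by simpa [hsmul] using hk' x⟩
  refine ⟨lt_of_le_not_ge inf_le_right fun hle => ?_, fun M hHM hMK => ?_⟩
  · obtain ⟨v, -, hv0, hv⟩ := E.herm.exists_iso_two (S := ⊤) (by rw [finrank_top]; omega)
    obtain ⟨ζ, hζ0, hζ⟩ := E.ext.exists_skew_scalar
    have hfv : ∀ k : A, Cfsg.hermForm n F q (k • v) v = 0 := fun k => by
      rw [E.form, E.herm.smul_left, hv, mul_zero, map_zero]
    have hfvv : Cfsg.hermForm n F q v v = 0 := by rw [E.form, hv, map_zero]
    obtain ⟨k, hk⟩ : ∃ k : A, ∀ c : F, algebraMap F A c ≠ k := by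
      by_contra hc
      push Not at hc
      have h1 := LinearMap.finrank_le_finrank_of_injective (R := F) (M := A) (M' := F)
        (f := (LinearEquiv.ofBijective (Algebra.linearMap F A) ⟨(algebraMap F A).injective, hc⟩).symm.toLinearMap)
        (LinearEquiv.injective _)
      rw [Module.finrank_self, hA.finrank_eq] at h1
      omega
    obtain ⟨t, ht, ht'⟩ := UnitOver.semi_of_mem_normalizer (hle (uT_mem_SU hσ hinv hne hfvv hζ)).1 k.2
    have ht'' : ∀ x, (uT (Cfsg.hermForm n F q) v ζ : Matrix (Fin n) (Fin n) F) *ᵥ (k • x) =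
        (⟨t, ht⟩ : A) • ((uT (Cfsg.hermForm n F q) v ζ : Matrix (Fin n) (Fin n) F) *ᵥ x) := fun x => ht' x
    have h1 := ht'' v
    rw [uT_mulVec hf hfvv, uT_mulVec hf hfvv, hfv, hfvv, mul_zero, zero_smul, add_zero, add_zero] at h1
    have hkt : k = ⟨t, ht⟩ := smul_left_injective A hv0 h1
    obtain ⟨x, hx⟩ := (hf.nondegenerate v hv0).1
    have h2 := ht'' x
    rw [← hkt, uT_mulVec hf hfvv, uT_mulVec hf hfvv, hsmul k (x + _), mulVec_add, mulVec_smul, ← hsmul, ← hsmul,
      add_right_inj, ← algebraMap_smul A (ζ * _) v,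
      ← algebraMap_smul A (ζ * _) (k • v)] at h2
    have h4 := smul_left_injective A hv0 (h2.trans (mul_smul (algebraMap F A _) k v).symm)
    refine hk (Cfsg.hermForm n F q (k • x) v / Cfsg.hermForm n F q x v) ?_
    have hz : algebraMap F A ζ ≠ 0 := (map_ne_zero_iff _ (algebraMap F A).injective).2 hζ0
    have hz' : algebraMap F A (Cfsg.hermForm n F q x v) ≠ 0 := (map_ne_zero_iff _ (algebraMap F A).injective).2 hx
    rw [map_mul, map_mul] at h4
    rw [map_div₀, div_eq_iff hz']
    exact mul_left_cancel₀ hz (by linear_combination h4)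
  by_cases hMN : M ≤ Cfsg.Geo.subalgebraNormalizer A
  · exact Or.inl (le_antisymm (le_inf hMN hMK) hHM)
  refine Or.inr (le_antisymm hMK ?_)
  obtain ⟨g, hg, hgN⟩ := SetLike.not_le_iff_exists.1 hMN
  have hlin : LinIn β M := fun h hl hb hdet => hHM
    ⟨hsemi h fun k => ⟨k, fun x => hl k x⟩, (mem_GU_iff h).2 (E.iso_of_beta hb), (mem_specialLinear_iff h).2 hdet⟩
  refine SU_le_of_transv hσ hinv hne (by omega) fun v hv c hc => ?_
  exact (E.ufull_all hlin (fun x hx => (mem_GU_iff x).1 (hMK hx).1) (by rw [hA.finrank_eq]; exact hr) hdim hsmall hg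
    (fun h => hgN (hsemi g h)) v hv).2 c hc

end CfsgLib.Classical22.UField
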